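import Groth.Agent.PINorm31.Geo
import Groth.Agent.FlatMor67.GeomReducedSmooth

/-! Stratification by smooth pieces after a finite purely inseparable extension. -/

set_option autoImplicit false
set_option backward.isDefEq.respectTransparency.types false

universe u

open CategoryTheory CategoryTheory.Limits AlgebraicGeometry TensorProduct

namespace Groth.Agent.PINorm31

/-- Smoothness of the reduced base change descends to a finite stage. -/
theorem smooth_red_eventually (k K R N : Type u) [Field k] [Field K] [Algebra k K] [CommRing R]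
    [Algebra k R] [Algebra.FiniteType k R] [CommRing N] [_root_.IsReduced N] [Algebra K N]
    [Algebra.Smooth K N]
    (φ : K ⊗[k] R →ₐ[K] N) (hφ : Function.Surjective φ) (hφnil : ∀ x, φ x = 0 → IsNilpotent x) :
    ∃ S : Finset K, ∀ (E : Type u) [Field E] [Algebra k E] [Algebra E K] [IsScalarTower k E K],
      (S : Set K) ⊆ Set.range (algebraMap E K) →
      ∀ (A : Type u) [CommRing A] [_root_.IsReduced A] [Algebra E A] (ψ : E ⊗[k] R →ₐ[E] A),
        Function.Surjective ψ → (∀ x, ψ x = 0 → IsNilpotent x) → Algebra.Smooth E A := by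
  classical
  obtain ⟨sR, hsR⟩ := (inferInstance : Algebra.FiniteType k R).out
  have : Algebra.FiniteType K N := Algebra.FiniteType.of_surjective φ hφ
  let v : ↥sR → N := fun r => φ (1 ⊗ₜ (r : R))
  have hπ : Function.Surjective (MvPolynomial.aeval (R := K) v) := by
    rw [← AlgHom.range_eq_top, eq_top_iff]
    rintro y -
    obtain ⟨x, rfl⟩ := hφ y
    induction x using TensorProduct.induction_on with
    | zero => rw [map_zero]; exact zero_mem _
    | tmul c r =>
      have : c ⊗ₜ[k] r = c • ((1 : K) ⊗ₜ[k] r) := by rw [TensorProduct.smul_tmul', smul_eq_mul, mul_one]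
      rw [this, map_smul]
      refine Subalgebra.smul_mem _ ?_ c
      let g : R →ₐ[k] K ⊗[k] R := Algebra.TensorProduct.includeRight
      suffices h : ∀ r, φ (g r) ∈ (MvPolynomial.aeval (R := K) v).range from h r
      intro r
      have hr : r ∈ Algebra.adjoin k (sR : Set R) := by rw [hsR]; trivial
      induction hr using Algebra.adjoin_induction with
      | mem x hx => exact ⟨MvPolynomial.X ⟨x, hx⟩, by simp [v, g]⟩
      | algebraMap c =>
        rw [AlgHom.commutes, IsScalarTower.algebraMap_apply k K (K ⊗[k] R), AlgHom.commutes]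
        exact Subalgebra.algebraMap_mem _ _
      | add x y _ _ hx hy => rw [map_add, map_add]; exact add_mem hx hy
      | mul x y _ _ hx hy => rw [map_mul, map_mul]; exact mul_mem hx hy
    | add x y hx hy => rw [map_add]; exact add_mem hx hy
  have : IsNoetherianRing (MvPolynomial ↥sR K) := inferInstance
  obtain ⟨gens, hgens⟩ := (IsNoetherian.noetherian (RingHom.ker (MvPolynomial.aeval (R := K) v)) :
    (RingHom.ker (MvPolynomial.aeval (R := K) v)).FG)
  refine ⟨gens.biUnion fun p => p.support.image fun m => p.coeff m,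
    fun E _ _ _ _ hSE A _ _ _ ψ hψ hψnil => ?_⟩
  let : Algebra E N := ((algebraMap K N).comp (algebraMap E K)).toAlgebra
  have : IsScalarTower E K N := IsScalarTower.of_algebraMap_eq fun _ => rfl
  obtain ⟨hsm, -⟩ := smooth_model (E := E) v hπ (gens : Set _) hgens (fun p hp r hr => by
    obtain ⟨n, hn, rfl⟩ := MvPolynomial.mem_coeffs_iff.mp hr
    exact hSE (Finset.mem_biUnion.mpr ⟨p, hp, Finset.mem_image_of_mem _ hn⟩))
  let m : E ⊗[k] R →ₐ[E] K ⊗[k] R := Algebra.TensorProduct.map (Algebra.ofId E K) (AlgHom.id k R)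
  have hm : Function.Injective m := by
    intro x y h
    exact Module.Flat.rTensor_preserves_injective_linearMap (M := R)
      (IsScalarTower.toAlgHom k E K).toLinearMap (algebraMap E K).injective h
  let q : E ⊗[k] R →ₐ[E] N := (φ.restrictScalars E).comp m
  have hker : ∀ x, q x = 0 ↔ ψ x = 0 := fun x => by
    constructor
    · intro h
      obtain ⟨n, hn⟩ := hφnil (m x) h
      have : x ^ n = 0 := hm (by rw [map_pow, hn, map_zero])
      exact IsNilpotent.eq_zero ⟨n, by rw [← map_pow, this, map_zero]⟩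
    · intro h
      obtain ⟨n, hn⟩ := hψnil x h
      exact IsNilpotent.eq_zero ⟨n, by rw [← map_pow, hn, map_zero]⟩
  let i : A →ₐ[E] N := AlgHom.liftOfSurjective ψ hψ q fun x hx => (hker x).mpr hx
  have hiψ : ∀ x, i (ψ x) = q x := fun x => AlgHom.liftOfSurjective_apply ..
  have hiinj : Function.Injective i := by
    rw [injective_iff_map_eq_zero]
    intro z hz
    obtain ⟨x, rfl⟩ := hψ z
    exact (hker x).mp ((hiψ x).symm.trans hz)
  have hrange : i.range = (MvPolynomial.aeval (R := E) v).range := by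
    apply le_antisymm
    · rintro _ ⟨z, rfl⟩
      obtain ⟨x, rfl⟩ := hψ z
      show i (ψ x) ∈ _
      rw [hiψ]
      induction x using TensorProduct.induction_on with
      | zero => rw [map_zero]; exact zero_mem _
      | tmul c r =>
        have : c ⊗ₜ[k] r = c • ((1 : E) ⊗ₜ[k] r) := by rw [TensorProduct.smul_tmul', smul_eq_mul, mul_one]
        rw [this, map_smul]
        refine Subalgebra.smul_mem _ ?_ c
        let g : R →ₐ[k] E ⊗[k] R := Algebra.TensorProduct.includeRight
        suffices h : ∀ r, q (g r) ∈ (MvPolynomial.aeval (R := E) v).range from h r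
        intro r
        have hr : r ∈ Algebra.adjoin k (sR : Set R) := by rw [hsR]; trivial
        induction hr using Algebra.adjoin_induction with
        | mem x hx => exact ⟨MvPolynomial.X ⟨x, hx⟩, by simp [v, g, q, m]⟩
        | algebraMap c =>
          rw [AlgHom.commutes, IsScalarTower.algebraMap_apply k E (E ⊗[k] R), AlgHom.commutes]
          exact Subalgebra.algebraMap_mem _ _
        | add x y _ _ hx hy => rw [map_add, map_add]; exact add_mem hx hy
        | mul x y _ _ hx hy => rw [map_mul, map_mul]; exact mul_mem hx hy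
      | add x y hx hy => rw [map_add]; exact add_mem hx hy
    · rw [← Algebra.adjoin_range_eq_range_aeval, Algebra.adjoin_le_iff]
      rintro _ ⟨r, rfl⟩
      exact ⟨ψ (1 ⊗ₜ (r : R)), (hiψ _).trans (by simp [v, q, m])⟩
  have : Algebra.Smooth E (MvPolynomial.aeval (R := E) v).range := hsm
  exact Algebra.Smooth.of_equiv (A := ↥(MvPolynomial.aeval (R := E) v).range) (B := A)
    ((Subalgebra.equivOfEq _ _ hrange.symm).trans (AlgEquiv.ofInjective i hiinj).symm)

variable {k : Type u} [Field k] {X : Scheme.{u}} [X.Over (Spec (CommRingCat.of k))]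

/-- A nonempty open piece of a closed subset, cut out by an affine chart, with smooth reduced
base change to a perfect purely inseparable extension. -/
theorem exists_piece [LocallyOfFiniteType (X ↘ Spec (CommRingCat.of k))] (K : Type u) [Field K]
    [Algebra k K] [IsPurelyInseparable k K] [PerfectField K] (Z : Set X) (hZ : IsClosed Z)
    (hne : Z.Nonempty) :
    ∃ (C : Type u) (_ : CommRing C) (_ : Algebra k C) (j : Spec (CommRingCat.of C) ⟶ X)
      (_ : IsOpenImmersion j) (I : Ideal C),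
      j ≫ (X ↘ Spec (CommRingCat.of k)) = Spec.map (CommRingCat.ofHom (algebraMap k C)) ∧
      j.base ⁻¹' Z = PrimeSpectrum.zeroLocus (I : Set C) ∧ (Z ∩ Set.range j.base).Nonempty ∧
      ∃ S : Finset K, ∀ (E : Type u) [Field E] [Algebra k E] [Algebra E K] [IsScalarTower k E K],
        (S : Set K) ⊆ Set.range (algebraMap E K) →
        ∀ (A : Type u) [CommRing A] [_root_.IsReduced A] [Algebra E A] (ψ : E ⊗[k] (C ⧸ I) →ₐ[E] A),
          Function.Surjective ψ → (∀ x, ψ x = 0 → IsNilpotent x) → Algebra.Smooth E A := by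
  obtain ⟨y, hy⟩ := hne
  obtain ⟨A, _, _, j₀, _, ⟨P₀, hP₀⟩, hj₀⟩ := FBase64.exists_chart (X ↘ Spec (CommRingCat.of k)) y
  have : Algebra.FiniteType k A := by
    have : LocallyOfFiniteType (j₀ ≫ (X ↘ Spec (CommRingCat.of k))) := inferInstance
    rw [hj₀, HasRingHomProperty.Spec_iff (P := @LocallyOfFiniteType)] at this
    exact RingHom.finiteType_algebraMap.mp this
  obtain ⟨I₀, hI₀, hI₀rad⟩ := (PrimeSpectrum.isClosed_iff_zeroLocus_radical_ideal _).mp
    (hZ.preimage j₀.continuous : IsClosed (j₀.base ⁻¹' Z : Set (PrimeSpectrum A)))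
  let R₀ := A ⧸ I₀
  have : _root_.IsReduced R₀ := (Ideal.isRadical_iff_quotient_reduced _).mp hI₀
  have hP₀I : I₀ ≤ (show PrimeSpectrum A from P₀).asIdeal := by
    have h : (show PrimeSpectrum A from P₀) ∈ PrimeSpectrum.zeroLocus (I₀ : Set A) := by
      rw [← hI₀rad]
      show j₀.base P₀ ∈ Z
      rwa [hP₀]
    exact h
  obtain ⟨c, hc, hcC⟩ := FlatMor67.GRS.exists_smooth_perfect (k := k) (A := R₀) K
  obtain ⟨c', rfl⟩ := Ideal.Quotient.mk_surjective c
  obtain ⟨P, hP⟩ : ∃ P : PrimeSpectrum A, I₀ ≤ P.asIdeal ∧ c' ∉ P.asIdeal := by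
    let Pq : Ideal R₀ := (show PrimeSpectrum A from P₀).asIdeal.map (Ideal.Quotient.mk I₀)
    have : Pq.IsPrime := Ideal.map_isPrime_of_surjective Ideal.Quotient.mk_surjective (by rwa [Ideal.mk_ker])
    obtain ⟨Q, hQ, -⟩ := Ideal.exists_minimalPrimes_le (bot_le : (⊥ : Ideal R₀) ≤ Pq)
    have := hQ.1.1
    refine ⟨⟨Q.comap (Ideal.Quotient.mk I₀), inferInstance⟩, ?_, hc Q hQ⟩
    conv_lhs => rw [← Ideal.mk_ker (I := I₀)]
    exact Ideal.ker_le_comap _
  let C := Localization.Away c'
  let I := I₀.map (algebraMap A C)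
  let l : Spec (CommRingCat.of C) ⟶ Spec (CommRingCat.of A) := Spec.map (CommRingCat.ofHom (algebraMap A C))
  have : IsOpenImmersion l := IsOpenImmersion.of_isLocalization c'
  have hpre : (l ≫ j₀).base ⁻¹' Z = PrimeSpectrum.zeroLocus (I : Set C) := by
    show (PrimeSpectrum.comap (algebraMap A C)) ⁻¹' (j₀.base ⁻¹' Z) = _
    rw [show (j₀.base ⁻¹' Z : Set (PrimeSpectrum A)) = PrimeSpectrum.zeroLocus (I₀ : Set A) from hI₀rad,
      PrimeSpectrum.preimage_comap_zeroLocus]
    exact (PrimeSpectrum.zeroLocus_span _).symm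
  have : Algebra.FiniteType A C := IsLocalization.finiteType_of_monoid_fg (Submonoid.powers c') C
  have : Algebra.FiniteType k C := Algebra.FiniteType.trans (S := A) inferInstance inferInstance
  have : IsLocalization.Away (Ideal.Quotient.mk I₀ c') (C ⧸ I) := by
    have h : IsLocalization (Algebra.algebraMapSubmonoid R₀ (Submonoid.powers c')) (C ⧸ I) := inferInstance
    rwa [Algebra.algebraMapSubmonoid, Submonoid.map_powers] at h
  have : IsScalarTower k R₀ (C ⧸ I) := IsScalarTower.of_algebraMap_eq fun r => by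
    show algebraMap k (C ⧸ I) r = Ideal.Quotient.mk I (algebraMap A C (algebraMap k A r))
    rw [← IsScalarTower.algebraMap_apply]
    rfl
  obtain ⟨Q, _, _, _, _, ψQ, hψQ, hkerQ, hψQ1, _, hsm⟩ := hcC (C ⧸ I)
  let φ : K ⊗[k] (C ⧸ I) →ₐ[K] Q :=
    { (ψQ.comp (Algebra.TensorProduct.comm k K (C ⧸ I)).toAlgHom).toRingHom with
      commutes' := fun r => by
        show ψQ (Algebra.TensorProduct.comm k K (C ⧸ I) (r ⊗ₜ 1)) = _
        rw [Algebra.TensorProduct.comm_tmul, hψQ1] }
  obtain ⟨S, hS⟩ := smooth_red_eventually k K (C ⧸ I) Q φ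
    (hψQ.comp (Algebra.TensorProduct.comm k K (C ⧸ I)).surjective)
    (fun x hx => (IsNilpotent.map_iff (f := (Algebra.TensorProduct.comm k K (C ⧸ I)).toAlgHom.toRingHom)
      (Algebra.TensorProduct.comm k K (C ⧸ I)).injective).mp (mem_nilradical.mp (hkerQ hx)))
  refine ⟨C, inferInstance, inferInstance, l ≫ j₀, inferInstance, I, ?_, hpre, ?_, S, hS⟩
  · rw [Category.assoc, hj₀, ← Spec.map_comp]
    rw [← CommRingCat.ofHom_comp, ← IsScalarTower.algebraMap_eq]
  · obtain ⟨P', hP'⟩ : P ∈ Set.range (PrimeSpectrum.comap (algebraMap A C)) := by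
      rw [PrimeSpectrum.localization_away_comap_range C c']
      exact hP.2
    refine ⟨(l ≫ j₀).base P', ?_, ⟨P', rfl⟩⟩
    show P' ∈ (l ≫ j₀).base ⁻¹' Z
    rw [hpre]
    intro x hx
    exact (Ideal.map_le_iff_le_comap.mpr (show I₀ ≤ P'.asIdeal.comap (algebraMap A C) by
      have h := congrArg PrimeSpectrum.asIdeal hP'
      exact hP.1.trans h.symm.le)) hx

/-- The piece of the reduced base change of a closed subset over an affine chart is smooth. -/
theorem smooth_piece (E : Type u) [Field E] [Algebra k E] (C : Type u) [CommRing C] [Algebra k C]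
    (j : Spec (CommRingCat.of C) ⟶ X) [IsOpenImmersion j]
    (hj : j ≫ (X ↘ Spec (CommRingCat.of k)) = Spec.map (CommRingCat.ofHom (algebraMap k C)))
    (I : Ideal C) (Z : TopologicalSpace.Closeds X)
    (hI : j.base ⁻¹' (Z : Set X) = PrimeSpectrum.zeroLocus (I : Set C))
    (hsm : ∀ (A : Type u) [CommRing A] [_root_.IsReduced A] [Algebra E A]
      (ψ : E ⊗[k] (C ⧸ I) →ₐ[E] A), Function.Surjective ψ → (∀ x, ψ x = 0 → IsNilpotent x) →
      Algebra.Smooth E A)
    (ZE : TopologicalSpace.Closeds (Curv2.bc k X E))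
    (hZE : (ZE : Set (Curv2.bc k X E)) = (Curv2.bcFst k X E).base ⁻¹' Z)
    (O : (Scheme.IdealSheafData.vanishingIdeal ZE).subscheme.Opens)
    (hO : (O : Set (Scheme.IdealSheafData.vanishingIdeal ZE).subscheme) =
      ((Scheme.IdealSheafData.vanishingIdeal ZE).subschemeι ≫ Curv2.bcFst k X E).base ⁻¹' Set.range j.base) :
    Smooth (O.ι ≫ (Scheme.IdealSheafData.vanishingIdeal ZE).subschemeι ≫ Curv2.bcSnd k X E) := by
  set t := Spec.map (CommRingCat.ofHom (algebraMap k E))
  let c := FBase64.prodChart (X ↘ Spec (CommRingCat.of k)) t j (𝟙 _) hj (Category.id_comp _)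
  have hc : c ≫ Curv2.bcSnd k X E = Spec.map (CommRingCat.ofHom
      (Algebra.TensorProduct.includeRight : E →ₐ[k] C ⊗[k] E).toRingHom) := by
    show FBase64.prodChart _ _ j (𝟙 _) hj _ ≫ pullback.snd _ _ = _
    rw [FBase64.prodChart, Category.assoc, pullback.lift_snd, Category.comp_id,
      pullbackSpecIso_inv_snd]
    rfl
  let 𝒥 := Scheme.IdealSheafData.vanishingIdeal ZE
  let ι := 𝒥.subschemeι
  let W : (Curv2.bc k X E).affineOpens :=
    ⟨c ''ᵁ ⊤, (isAffineOpen_top _).image_of_isOpenImmersion c⟩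
  let e : C ⊗[k] E ≃+* Γ(Curv2.bc k X E, W.1) :=
    ((c.appIso ⊤ ≪≫ Scheme.ΓSpecIso (CommRingCat.of (C ⊗[k] E))).commRingCatIsoToRingEquiv).symm
  have hOW : O = ι ⁻¹ᵁ W.1 := by
    refine TopologicalSpace.Opens.ext (hO.trans ?_)
    show ι.base ⁻¹' ((Curv2.bcFst k X E).base ⁻¹' Set.range j) = ι.base ⁻¹' (c '' Set.univ)
    rw [Set.image_univ, FBase64.range_prodChart]
    congr 1
    ext z
    simp
    rfl
  subst hOW
  have hV : IsAffineOpen (ι ⁻¹ᵁ W.1) := W.2.preimage ι
  have h1 : (Curv2.bcSnd k X E).appLE ⊤ W.1 le_top ≫ (c.appIso ⊤).hom =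
      (c ≫ Curv2.bcSnd k X E).appTop := by
    rw [Scheme.Hom.appIso_hom']
    erw [Scheme.Hom.appLE_comp_appLE]
    rw [Scheme.Hom.appTop, Scheme.Hom.app_eq_appLE]
    rfl
  have h2 : ∀ r : E, e (1 ⊗ₜ r) =
      ((Scheme.ΓSpecIso (CommRingCat.of E)).inv ≫ (Curv2.bcSnd k X E).appLE ⊤ W.1 le_top).hom r := by
    intro r
    apply e.symm.injective
    rw [e.symm_apply_apply]
    show _ = ((Scheme.ΓSpecIso (CommRingCat.of E)).inv ≫ (Curv2.bcSnd k X E).appLE ⊤ W.1 le_top ≫
      (c.appIso ⊤).hom ≫ (Scheme.ΓSpecIso (CommRingCat.of (C ⊗[k] E))).hom).hom r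
    rw [← Category.assoc ((Curv2.bcSnd k X E).appLE ⊤ W.1 le_top), h1, hc,
      Scheme.ΓSpecIso_naturality, Iso.inv_hom_id_assoc]
    rfl
  let A := Γ(𝒥.subscheme, ι ⁻¹ᵁ W.1)
  let θ : E →+* A := ((Scheme.ΓSpecIso (CommRingCat.of E)).inv ≫
    (ι ≫ Curv2.bcSnd k X E).appLE ⊤ (ι ⁻¹ᵁ W.1) le_top).hom
  let := θ.toAlgebra
  let p₀ : E ⊗[k] C →+* A :=
    (ι.app W.1).hom.comp (e.toRingHom.comp (Algebra.TensorProduct.comm k E C).toRingHom)
  let p : E ⊗[k] C →ₐ[E] A :=
    { p₀ with
      commutes' := fun r => by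
        show ι.app W.1 (e (Algebra.TensorProduct.comm k E C (r ⊗ₜ 1))) = θ r
        rw [Algebra.TensorProduct.comm_tmul, h2]
        show _ = ((Scheme.ΓSpecIso (CommRingCat.of E)).inv ≫
          (ι ≫ Curv2.bcSnd k X E).appLE ⊤ (ι ⁻¹ᵁ W.1) le_top).hom r
        rw [← Scheme.Hom.appLE_comp_appLE ι (Curv2.bcSnd k X E) ⊤ W.1 (ι ⁻¹ᵁ W.1) le_top le_rfl]
        rw [Scheme.Hom.app_eq_appLE]
        rfl }
  have hp : Function.Surjective p :=
    (Scheme.IdealSheafData.subschemeι_app_surjective _ W).comp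
      (e.surjective.comp (Algebra.TensorProduct.comm k E C).surjective)
  -- the kernel is the radical of the extended ideal
  have hset : c.base ⁻¹' (ZE : Set (Curv2.bc k X E)) =
      PrimeSpectrum.zeroLocus ((I.map (algebraMap C (C ⊗[k] E))) : Set (C ⊗[k] E)) := by
    rw [hZE, ← Set.preimage_comp, ← TopCat.coe_comp, ← Scheme.Hom.comp_base]
    show (c ≫ Curv2.bcFst k X E).base ⁻¹' _ = _
    rw [show c ≫ Curv2.bcFst k X E = _ from FBase64.prodChart_fst _ _ _ _ _ _]
    show (PrimeSpectrum.comap (algebraMap C (C ⊗[k] E))) ⁻¹' (j.base ⁻¹' (Z : Set X)) = _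
    erw [hI, PrimeSpectrum.preimage_comap_zeroLocus]
    exact (PrimeSpectrum.zeroLocus_span _).symm
  have hker : ∀ x, p x = 0 ↔ Algebra.TensorProduct.comm k E C x ∈ (I.map (algebraMap C (C ⊗[k] E))).radical := by
    intro x
    show ι.app W.1 (e (Algebra.TensorProduct.comm k E C x)) = 0 ↔ _
    rw [← RingHom.mem_ker, Scheme.IdealSheafData.ker_subschemeι_app,
      Scheme.IdealSheafData.vanishingIdeal_ideal]
    have hfs : W.2.fromSpec.base ⁻¹' (ZE : Set _) =
        (PrimeSpectrum.comap e.toRingHom) ⁻¹' (c.base ⁻¹' (ZE : Set _)) := by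
      have : W.2.fromSpec = Spec.map (CommRingCat.ofHom e.toRingHom) ≫ c := by
        have h := IsAffineOpen.SpecMap_appLE_fromSpec c W.2 (isAffineOpen_top _)
          (V := ⊤) (U := W.1) (c.preimage_image_eq ⊤).ge
        rw [← Scheme.Hom.appIso_hom', IsAffineOpen.fromSpec_top, Scheme.isoSpec_Spec_inv] at h
        have he : CommRingCat.ofHom e.toRingHom =
            (Scheme.ΓSpecIso (CommRingCat.of (C ⊗[k] E))).inv ≫ (c.appIso ⊤).inv := rfl
        rw [he, Spec.map_comp, Category.assoc, ← h, ← Spec.map_comp_assoc, Iso.hom_inv_id, Spec.map_id]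
        exact (Category.id_comp _).symm
      rw [this]
      rfl
    show e _ ∈ PrimeSpectrum.vanishingIdeal (W.2.fromSpec.base ⁻¹' (ZE : Set _)) ↔ _
    erw [hfs, hset]
    erw [PrimeSpectrum.preimage_comap_zeroLocus]
    rw [← PrimeSpectrum.zeroLocus_span, PrimeSpectrum.vanishingIdeal_zeroLocus_eq_radical]
    show e _ ∈ (Ideal.map e.toRingHom _).radical ↔ _
    rw [Ideal.mem_radical_iff, Ideal.mem_radical_iff]
    refine exists_congr fun n => ?_
    rw [← map_pow]
    exact Ideal.apply_mem_of_equiv_iff (f := e)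
  have : _root_.IsReduced A := by
    refine ⟨fun a ⟨n, hn⟩ => ?_⟩
    obtain ⟨x, rfl⟩ := hp a
    rw [← map_pow] at hn
    rw [hker] at hn ⊢
    rw [map_pow] at hn
    exact Ideal.mem_radical_of_pow_mem hn
  -- pass to the quotient by the ideal of the piece
  let q : E ⊗[k] C →ₐ[E] E ⊗[k] (C ⧸ I) :=
    Algebra.TensorProduct.map (AlgHom.id E E) (Ideal.Quotient.mkₐ k I)
  have hq : Function.Surjective q :=
    LinearMap.lTensor_surjective E (g := (Ideal.Quotient.mkₐ k I).toLinearMap) Ideal.Quotient.mk_surjective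
  have hkq : RingHom.ker q = I.map (Algebra.TensorProduct.includeRight : C →ₐ[k] E ⊗[k] C) := by
    have := Algebra.TensorProduct.lTensor_ker (A := E) (Ideal.Quotient.mkₐ k I) Ideal.Quotient.mk_surjective
    rw [show RingHom.ker (Ideal.Quotient.mkₐ k I) = I from Ideal.mk_ker] at this
    exact this
  have hkq' : ∀ x, q x = 0 ↔
      Algebra.TensorProduct.comm k E C x ∈ I.map (algebraMap C (C ⊗[k] E)) := by
    intro x
    rw [← RingHom.mem_ker, hkq]
    have h : I.map (algebraMap C (C ⊗[k] E)) =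
        (I.map (Algebra.TensorProduct.includeRight : C →ₐ[k] E ⊗[k] C)).map
          (Algebra.TensorProduct.comm k E C).toRingEquiv.toRingHom := by
      symm
      erw [Ideal.map_map]
      congr 1
    rw [h]
    exact (Ideal.apply_mem_of_equiv_iff (f := (Algebra.TensorProduct.comm k E C).toRingEquiv)).symm
  let ψ : E ⊗[k] (C ⧸ I) →ₐ[E] A :=
    AlgHom.liftOfSurjective q hq p fun x hx => (hker x).mpr (Ideal.le_radical ((hkq' x).mp hx))
  have hψq : ∀ x, ψ (q x) = p x := fun x => AlgHom.liftOfSurjective_apply ..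
  have hA : Algebra.Smooth E A := by
    refine hsm A ψ (fun a => ?_) (fun z hz => ?_)
    · obtain ⟨x, rfl⟩ := hp a
      exact ⟨q x, hψq x⟩
    · obtain ⟨x, rfl⟩ := hq z
      rw [hψq, hker] at hz
      obtain ⟨n, hn⟩ := hz
      refine ⟨n, ?_⟩
      rw [← map_pow, hkq', map_pow]
      exact hn
  have hfs : Smooth (hV.fromSpec ≫ ι ≫ Curv2.bcSnd k X E) := by
    rw [← IsAffineOpen.SpecMap_appLE_fromSpec (ι ≫ Curv2.bcSnd k X E) (isAffineOpen_top _) hV le_top,
      IsAffineOpen.fromSpec_top, Scheme.isoSpec_Spec_inv, ← Spec.map_comp,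
      HasRingHomProperty.Spec_iff (P := @Smooth)]
    exact RingHom.smooth_algebraMap.mpr hA
  rw [IsAffineOpen.fromSpec] at hfs
  rw [Category.assoc] at hfs
  exact (MorphismProperty.cancel_left_of_respectsIso @Smooth _ _).mp hfs

theorem exists_chain [LocallyOfFiniteType (X ↘ Spec (CommRingCat.of k))]
    [TopologicalSpace.NoetherianSpace X] (K : Type u) [Field K]
    [Algebra k K] [IsPurelyInseparable k K] [PerfectField K] (Z : TopologicalSpace.Closeds X) :
    ∃ S : Finset K, ∀ (E : Type u) [Field E] [Algebra k E] [Algebra E K] [IsScalarTower k E K],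
      (S : Set K) ⊆ Set.range (algebraMap E K) →
      ∃ (t : ℕ) (I : Fin (t + 1) → (Curv2.bc k X E).IdealSheafData), Monotone I ∧
        I 0 = Scheme.IdealSheafData.vanishingIdeal (Z.preimage (Curv2.bcFst k X E).continuous) ∧
        I (Fin.last t) = ⊤ ∧
        ∀ i : Fin t, Smooth (((I i.castSucc).subschemeι ⁻¹ᵁ (I i.succ).support.compl).ι ≫
          (I i.castSucc).subschemeι ≫ Curv2.bcSnd k X E) := by
  classical
  induction Z using WellFoundedLT.induction with
  | _ Z ih =>
  rcases (Z : Set X).eq_empty_or_nonempty with h0 | hne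
  · refine ⟨∅, fun E _ _ _ _ _ => ⟨0, fun _ => ⊤, monotone_const, ?_, rfl, fun i => i.elim0⟩⟩
    have : Z.preimage (Curv2.bcFst k X E).continuous = ⊥ := by
      apply SetLike.coe_injective
      show (Curv2.bcFst k X E).base ⁻¹' (Z : Set X) = _
      rw [h0, Set.preimage_empty]
      rfl
    rw [this]
    symm
    rw [← Scheme.IdealSheafData.support_eq_bot_iff]
    apply SetLike.coe_injective
    rw [Scheme.IdealSheafData.coe_support_vanishingIdeal]
  obtain ⟨C, _, _, j, _, I, hj, hI, ⟨y, hyZ, hyj⟩, S₁, hS₁⟩ := exists_piece (k := k) (X := X) K (Z : Set X) Z.isClosed hne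
  let Z' : TopologicalSpace.Closeds X :=
    ⟨(Z : Set X) ∩ (Set.range j.base)ᶜ, Z.isClosed.inter j.isOpenEmbedding.isOpen_range.isClosed_compl⟩
  have hlt : Z' < Z := lt_of_le_of_ne (fun x hx => hx.1) fun h => by
    have : y ∈ (Z' : Set X) := by rw [h]; exact hyZ
    exact this.2 hyj
  obtain ⟨S₂, hS₂⟩ := ih Z' hlt
  refine ⟨S₁ ∪ S₂, fun E _ _ _ _ hS => ?_⟩
  rw [Finset.coe_union, Set.union_subset_iff] at hS
  obtain ⟨t, J, hmono, hJ0, hJlast, hJ⟩ := hS₂ E hS.2
  let ZE := Z.preimage (Curv2.bcFst k X E).continuous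
  let J' : Fin (t + 2) → (Curv2.bc k X E).IdealSheafData :=
    Fin.cons (Scheme.IdealSheafData.vanishingIdeal ZE) J
  refine ⟨t + 1, J', ?_, rfl, ?_, ?_⟩
  · rw [Fin.monotone_iff_le_succ]
    intro i
    induction i using Fin.cases with
    | zero =>
      show Scheme.IdealSheafData.vanishingIdeal ZE ≤ J 0
      rw [hJ0]
      exact Scheme.IdealSheafData.vanishingIdeal_antimono fun x hx => hlt.le hx
    | succ i =>
      show J' i.succ.castSucc ≤ J' i.succ.succ
      rw [← Fin.succ_castSucc]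
      simpa [J'] using hmono (Fin.castSucc_le_succ i)
  · rw [← Fin.succ_last]
    simpa [J'] using hJlast
  · intro i
    induction i using Fin.cases with
    | zero =>
      show Smooth (((Scheme.IdealSheafData.vanishingIdeal ZE).subschemeι ⁻¹ᵁ (J 0).support.compl).ι ≫
        (Scheme.IdealSheafData.vanishingIdeal ZE).subschemeι ≫ Curv2.bcSnd k X E)
      refine smooth_piece E C j hj I Z hI (fun A _ _ _ => hS₁ E hS.1 A) ZE rfl _ ?_
      rw [hJ0]
      ext z
      have hz : (Curv2.bcFst k X E).base ((Scheme.IdealSheafData.vanishingIdeal ZE).subschemeι z) ∈ (Z : Set X) := by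
        have h : (Scheme.IdealSheafData.vanishingIdeal ZE).subschemeι z ∈
            Set.range (Scheme.IdealSheafData.vanishingIdeal ZE).subschemeι := ⟨z, rfl⟩
        rw [Scheme.IdealSheafData.range_subschemeι, Scheme.IdealSheafData.coe_support_vanishingIdeal] at h
        exact h
      show ((Scheme.IdealSheafData.vanishingIdeal ZE).subschemeι z ∉
        ((Scheme.IdealSheafData.vanishingIdeal (Z'.preimage (Curv2.bcFst k X E).continuous)).support :
          Set (Curv2.bc k X E))) ↔ _
      rw [Scheme.IdealSheafData.coe_support_vanishingIdeal]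
      show ¬ ((Curv2.bcFst k X E).base _ ∈ (Z : Set X) ∧ _ ∉ Set.range j.base) ↔ _ ∈ Set.range j.base
      simp only [hz, true_and, not_not]
      rfl
    | succ i =>
      have h := hJ i
      show Smooth (((J' i.succ.castSucc).subschemeι ⁻¹ᵁ (J' i.succ.succ).support.compl).ι ≫
          (J' i.succ.castSucc).subschemeι ≫ Curv2.bcSnd k X E)
      rw [← Fin.succ_castSucc]
      exact h

end Groth.Agent.PINorm31
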