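import Groth.Agent.FlatMor67.RegularSmooth
import Groth.Agent.Sep12.Basic
import Groth.Agent.CAlg1.SerreNormal
import Groth.Agent.CAlg6.FiniteClosure
import Mathlib.FieldTheory.PurelyInseparable.PerfectClosure
import Mathlib.RingTheory.Etale.Descent
import Mathlib.RingTheory.Smooth.Locus

/-! After a finite purely inseparable extension of the constants, the normalization of the
reduced base change of a one-dimensional affine algebra is smooth. -/

set_option autoImplicit false

universe u

open TensorProduct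

namespace Groth.Agent.PINorm31

theorem ringKrullDim_le_of_isIntegral {R A : Type u} [CommRing R] [CommRing A] [Algebra R A]
    [Algebra.IsIntegral R A] : ringKrullDim A ≤ ringKrullDim R :=
  Order.krullDim_le_of_strictMono (fun p => PrimeSpectrum.comap (algebraMap R A) p) fun p q h => by
    exact (PrimeSpectrum.asIdeal_lt_asIdeal _ _).mp
      (Ideal.IsIntegral.comap_lt_comap (R := R) ((PrimeSpectrum.asIdeal_lt_asIdeal _ _).mpr h))

/-- A normal domain of dimension at most one of finite type over a perfect field is smooth. -/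
theorem smooth_of_normal_dim_le_one (K N : Type u) [Field K] [PerfectField K] [CommRing N] [IsDomain N]
    [Algebra K N] [Algebra.FiniteType K N] [IsIntegrallyClosed N] (hd : ringKrullDim N ≤ 1) :
    Algebra.Smooth K N := by
  have : IsNoetherianRing N := Algebra.FiniteType.isNoetherianRing K N
  have : Algebra.FinitePresentation K N := Algebra.FinitePresentation.of_finiteType.mp ‹_›
  refine ⟨?_, inferInstance⟩
  rw [← Algebra.smoothLocus_eq_univ_iff (R := K) (A := N), Set.eq_univ_iff_forall]
  intro P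
  have : IsIntegrallyClosed (Localization.AtPrime P.asIdeal) :=
    isIntegrallyClosed_of_isLocalization _ P.asIdeal.primeCompl
      P.asIdeal.primeCompl_le_nonZeroDivisors
  have hd' : ringKrullDim (Localization.AtPrime P.asIdeal) ≤ 1 := by
    refine le_trans ?_ hd
    exact Order.krullDim_le_of_strictMono _
      (IsLocalization.AtPrime.primeSpectrumOrderIso (Localization.AtPrime P.asIdeal) P.asIdeal).strictMono
      |>.trans (Order.krullDim_le_of_strictMono _ (fun a b h => h : StrictMono (Subtype.val :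
        Set.Iic P → PrimeSpectrum N)))
  have : IsRegularLocalRing (Localization.AtPrime P.asIdeal) :=
    CAlg1.regular_of_isIntegrallyClosed_dim_le_one _ hd'
  have : Algebra.FormallySmooth K P.asIdeal.ResidueField := Sep12.formallySmooth_of_perfectField _ _
  exact FlatMor67.isSmoothAt_of_regular P.asIdeal

variable (k K B : Type u) [Field k] [Field K] [Algebra k K] [CommRing B] [Algebra k B]

theorem isPrime_nilradical_tensor [IsPurelyInseparable k K] [IsDomain B] :
    (nilradical (K ⊗[k] B)).IsPrime := by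
  have hinj : Function.Injective (Algebra.TensorProduct.includeRight : B →ₐ[k] K ⊗[k] B) :=
    Algebra.TensorProduct.includeRight_injective (algebraMap k K).injective
  have hpow : ∀ x : K ⊗[k] B, ∃ n > 0, ∃ b : B,
      Algebra.TensorProduct.includeRight (R := k) (A := K) b = x ^ n := by
    intro x
    obtain ⟨n, hn, c, hc⟩ := IsPurelyInseparable.exists_pow_mem_range_tensorProduct
      (k := k) (K := K) (R := B) (Algebra.TensorProduct.comm k K B x)
    refine ⟨n, hn, c, (Algebra.TensorProduct.comm k K B).injective ?_⟩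
    rw [map_pow, ← hc]
    simp
  refine ⟨?_, ?_⟩
  · rw [Ideal.ne_top_iff_one]
    intro h
    obtain ⟨n, hn⟩ := mem_nilradical.mp h
    have : Nontrivial (K ⊗[k] B) := hinj.nontrivial
    exact one_ne_zero ((one_pow n).symm.trans hn)
  · intro x y hxy
    obtain ⟨n, hn, a, ha⟩ := hpow x
    obtain ⟨m, hm, b, hb⟩ := hpow y
    have hnil : IsNilpotent (a ^ m * b ^ n) := by
      rw [← IsNilpotent.map_iff hinj, map_mul, map_pow, map_pow, ha, hb, ← pow_mul, ← pow_mul,
        mul_comm m n, ← mul_pow]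
      exact IsNilpotent.pow_of_pos (mem_nilradical.mp hxy) (by positivity)
    rcases mul_eq_zero.mp hnil.eq_zero with h | h
    · refine Or.inl (mem_nilradical.mpr ⟨n, ?_⟩)
      rw [← ha, eq_zero_of_pow_eq_zero h, map_zero]
    · refine Or.inr (mem_nilradical.mpr ⟨m, ?_⟩)
      rw [← hb, eq_zero_of_pow_eq_zero h, map_zero]

theorem isIntegral_comp_includeRight [Algebra.IsAlgebraic k K] :
    (Algebra.TensorProduct.includeRight : B →ₐ[k] K ⊗[k] B).toRingHom.IsIntegral := by
  intro x
  induction x using TensorProduct.induction_on with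
  | zero => exact RingHom.isIntegralElem_zero _
  | tmul c b =>
    have hc : (Algebra.TensorProduct.includeRight : B →ₐ[k] K ⊗[k] B).toRingHom.IsIntegralElem
        (c ⊗ₜ[k] (1 : B)) := by
      obtain ⟨p, hp, hp0⟩ := (Algebra.IsAlgebraic.isAlgebraic (R := k) c).isIntegral
      refine ⟨p.map (algebraMap k B), hp.map _, ?_⟩
      rw [Polynomial.eval₂_map]
      have h1 : (Algebra.TensorProduct.includeRight : B →ₐ[k] K ⊗[k] B).toRingHom.comp (algebraMap k B)
          = algebraMap k (K ⊗[k] B) := RingHom.ext fun r =>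
          (Algebra.TensorProduct.includeRight : B →ₐ[k] K ⊗[k] B).commutes r
      rw [h1]
      have h2 := Polynomial.aeval_algHom_apply
        (Algebra.TensorProduct.includeLeft : K →ₐ[k] K ⊗[k] B) c p
      rw [Polynomial.aeval_def, Polynomial.aeval_def, hp0, map_zero] at h2
      exact h2
    have : c ⊗ₜ[k] b = c ⊗ₜ[k] (1 : B) *
        (Algebra.TensorProduct.includeRight : B →ₐ[k] K ⊗[k] B).toRingHom b := by simp
    rw [this]
    exact RingHom.IsIntegralElem.mul _ hc ((Algebra.TensorProduct.includeRight :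
      B →ₐ[k] K ⊗[k] B).toRingHom.isIntegralElem_map)
  | add x y hx hy => exact RingHom.IsIntegralElem.add _ hx hy

theorem smooth_model {E K N : Type u} [Field E] [Field K] [Algebra E K] [CommRing N]
    [Algebra K N] [Algebra E N] [IsScalarTower E K N] [Algebra.Smooth K N]
    {σ : Type u} (v : σ → N) (hπ : Function.Surjective (MvPolynomial.aeval (R := K) v))
    (gens : Set (MvPolynomial σ K))
    (hgens : Ideal.span gens = RingHom.ker (MvPolynomial.aeval (R := K) v))
    (hE : ∀ p ∈ gens, (p.coeffs : Set K) ⊆ Set.range (algebraMap E K)) :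
    Algebra.Smooth E (MvPolynomial.aeval (R := E) v).range ∧
      ∀ (z b : N), z ∈ (MvPolynomial.aeval (R := E) v).range → b ∈ (MvPolynomial.aeval (R := E) v).range →
        IsLeftRegular b → ∀ y, z = b * y → y ∈ (MvPolynomial.aeval (R := E) v).range := by
  set πE : MvPolynomial σ E →ₐ[E] N := MvPolynomial.aeval v with hπE
  let NE : Subalgebra E N := πE.range
  let μ : K ⊗[E] NE →ₐ[K] N :=
    Algebra.TensorProduct.lift (Algebra.ofId K N) NE.val fun _ _ => Commute.all _ _
  have hμ1 : ∀ z : NE, μ (1 ⊗ₜ z) = z := fun z => by simp [μ]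
  let vE : σ → NE := fun j => ⟨v j, MvPolynomial.X j, by simp [πE]⟩
  let Ψ : MvPolynomial σ K →ₐ[K] K ⊗[E] NE := MvPolynomial.aeval fun j => (1 : K) ⊗ₜ[E] vE j
  have hμΨ : μ.comp Ψ = MvPolynomial.aeval v := MvPolynomial.algHom_ext fun j => by simp [μ, Ψ, vE]
  have hvE : ∀ p : MvPolynomial σ E, ((MvPolynomial.aeval vE p : NE) : N) = πE p := fun p => by
    rw [← Subalgebra.coe_val, ← AlgHom.comp_apply, MvPolynomial.comp_aeval]; rfl
  have hΨE : ∀ p : MvPolynomial σ E,
      Ψ (MvPolynomial.map (algebraMap E K) p) = (1 : K) ⊗ₜ[E] MvPolynomial.aeval vE p := fun p => by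
    rw [MvPolynomial.aeval_map_algebraMap]
    exact MvPolynomial.comp_aeval_apply (vE) (Algebra.TensorProduct.includeRight : NE →ₐ[E] K ⊗[E] NE) p |>.symm
  have hΨsurj : Function.Surjective Ψ := by
    intro x
    induction x using TensorProduct.induction_on with
    | zero => exact ⟨0, map_zero _⟩
    | tmul r z =>
      obtain ⟨z, p, rfl⟩ := z
      refine ⟨MvPolynomial.C r * MvPolynomial.map (algebraMap E K) p, ?_⟩
      have : (MvPolynomial.aeval vE p : NE) = ⟨πE p, p, rfl⟩ := Subtype.ext (hvE p)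
      rw [map_mul, hΨE, this, MvPolynomial.aeval_C, Algebra.TensorProduct.algebraMap_apply,
        Algebra.TensorProduct.tmul_mul_tmul]
      simp
    | add x y hx hy =>
      obtain ⟨p, rfl⟩ := hx
      obtain ⟨p', rfl⟩ := hy
      exact ⟨p + p', map_add _ _ _⟩
  have hkerΨ : RingHom.ker (MvPolynomial.aeval (R := K) v) ≤ RingHom.ker Ψ := by
    rw [← hgens, Ideal.span_le]
    intro p hp
    obtain ⟨p', rfl⟩ := (MvPolynomial.mem_range_map_iff_coeffs_subset (f := algebraMap E K)).mpr (hE p hp)
    have h0 : MvPolynomial.aeval (R := K) v (MvPolynomial.map (algebraMap E K) p') = 0 := by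
      have := Ideal.subset_span hp
      rwa [hgens] at this
    rw [MvPolynomial.aeval_map_algebraMap] at h0
    show Ψ _ = 0
    have : MvPolynomial.aeval vE p' = (0 : NE) := Subtype.ext ((hvE p').trans h0)
    rw [hΨE, this, TensorProduct.tmul_zero]
  have hμbij : Function.Bijective μ := by
    refine ⟨(injective_iff_map_eq_zero _).mpr fun x hx => ?_, fun y => ?_⟩
    · obtain ⟨p, rfl⟩ := hΨsurj x
      exact hkerΨ (show MvPolynomial.aeval v p = 0 by rw [← hμΨ]; exact hx)
    · obtain ⟨p, rfl⟩ := hπ y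
      exact ⟨Ψ p, by rw [← hμΨ]; rfl⟩
  have : Algebra.Smooth K (K ⊗[E] NE) :=
    ⟨Algebra.FormallySmooth.of_equiv (AlgEquiv.ofBijective μ hμbij).symm,
      Algebra.FinitePresentation.equiv (AlgEquiv.ofBijective μ hμbij).symm⟩
  refine ⟨Algebra.Smooth.of_smooth_tensorProduct_of_faithfullyFlat (R := E) (S := NE) K, ?_⟩
  intro z b hz hb hb0 y h
  obtain ⟨t, rfl⟩ := hμbij.2 y
  obtain ⟨r, hr⟩ := (Algebra.linearMap E K).exists_leftInverse_of_injective
    (LinearMap.ker_eq_bot.mpr (algebraMap E K).injective)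
  have hr1 : r 1 = 1 := by
    have := LinearMap.congr_fun hr 1
    simpa using this
  let ρ : K ⊗[E] NE →ₗ[E] NE := (TensorProduct.lid E NE).toLinearMap ∘ₗ LinearMap.rTensor NE r
  have hρ : ∀ t, ρ ((1 ⊗ₜ ⟨b, hb⟩) * t) = ⟨b, hb⟩ * ρ t := by
    intro t
    induction t using TensorProduct.induction_on with
    | zero => simp
    | tmul r' w => simp [ρ, Algebra.TensorProduct.tmul_mul_tmul]
    | add x y hx hy => simp [mul_add, map_add, hx, hy]
  have h' : (1 : K) ⊗ₜ[E] (⟨z, hz⟩ : NE) = (1 ⊗ₜ ⟨b, hb⟩) * t :=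
    hμbij.1 (by rw [map_mul, hμ1, hμ1]; exact h)
  have h2 := congrArg ρ h'
  rw [hρ] at h2
  have h3 : (⟨z, hz⟩ : NE) = ⟨b, hb⟩ * ρ t := by rw [← h2]; simp [ρ, hr1]
  have h4 : μ t = (ρ t : N) := hb0 (h.symm.trans (congrArg Subtype.val h3))
  rw [h4]
  exact (ρ t).2

/-- A subalgebra of a field having the characteristic properties of the integral closure is
isomorphic to it. -/
theorem nonempty_algEquiv_integralClosure {E A L F : Type u} [Field E] [CommRing A] [IsDomain A]
    [Algebra E A] [Field L] [Algebra A L] [IsFractionRing A L] [Algebra E L] [IsScalarTower E A L]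
    [Field F] [Algebra E F] (g : A →ₐ[E] F) (hg : Function.Injective g) (M : Subalgebra E F)
    (hAM : ∀ z, g z ∈ M) (hint : ∀ y ∈ M, g.toRingHom.IsIntegralElem y)
    (hgen : ∃ G : Set F, M ≤ Algebra.adjoin E G ∧ ∀ y ∈ G, ∃ z z', z' ≠ 0 ∧ y = g z / g z')
    (hsat : ∀ y, g.toRingHom.IsIntegralElem y → ∀ b ∈ M, b ≠ 0 → b * y ∈ M → y ∈ M) :
    Nonempty (M ≃ₐ[E] integralClosure A L) := by
  let Φ : L →ₐ[E] F := IsFractionRing.liftAlgHom (A := A) (K := L) hg
  have hΦ : ∀ z, Φ (algebraMap A L z) = g z := fun z => by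
    simp [Φ, IsFractionRing.liftAlgHom]
  have hΦint : ∀ y : L, IsIntegral A y ↔ g.toRingHom.IsIntegralElem (Φ y) := fun y => by
    have : g.toRingHom = Φ.toRingHom.comp (algebraMap A L) := RingHom.ext fun z => (hΦ z).symm
    rw [this]
    exact (RingHom.IsIntegralElem.map_iff (g := Φ.toRingHom) Φ.toRingHom.injective).symm
  have h1 : M ≤ ((integralClosure A L).restrictScalars E).map Φ := by
    obtain ⟨G, hG, hG'⟩ := hgen
    have hMΦ : M ≤ Φ.range := hG.trans (Algebra.adjoin_le fun y hy => by
      obtain ⟨z, z', hz', rfl⟩ := hG' y hy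
      exact ⟨algebraMap A L z / algebraMap A L z', by simp [map_div₀, hΦ]⟩)
    intro y hy
    obtain ⟨x, rfl⟩ := hMΦ hy
    exact ⟨x, (hΦint x).mpr (hint _ hy), rfl⟩
  have h2 : ((integralClosure A L).restrictScalars E).map Φ ≤ M := by
    rintro _ ⟨x, hx, rfl⟩
    obtain ⟨z, z', hz', hx'⟩ := IsFractionRing.div_surjective (A := A) x
    have hz'0 : g z' ≠ 0 := (map_ne_zero_iff _ hg).mpr (nonZeroDivisors.ne_zero hz')
    refine hsat _ ((hΦint x).mp hx) (g z') (hAM z') hz'0 ?_
    show g z' * Φ x ∈ M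
    rw [← hx', map_div₀, hΦ, hΦ, mul_div_cancel₀ _ hz'0]
    exact hAM z
  rw [show M = ((integralClosure A L).restrictScalars E).map Φ from le_antisymm h1 h2]
  exact ⟨(Subalgebra.equivMapOfInjective _ Φ Φ.toRingHom.injective).symm⟩

theorem exists_embedding [IsDomain B] [IsPurelyInseparable k K]
    (E : Type u) [Field E] [Algebra k E] [Algebra E K] [IsScalarTower k E K]
    (A : Type u) [CommRing A] [IsDomain A] [Algebra E A]
    (ψ : E ⊗[k] B →ₐ[E] A) (hψ : Function.Surjective ψ) (hψnil : ∀ x, ψ x = 0 → IsNilpotent x) :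
    ∃ i : A →ₐ[E] (K ⊗[k] B) ⧸ nilradical (K ⊗[k] B), Function.Injective i ∧
      ∀ (r : E) (b : B), i (ψ (r ⊗ₜ b)) = Ideal.Quotient.mk _ (algebraMap E K r ⊗ₜ[k] b) := by
  let m : E ⊗[k] B →ₐ[E] K ⊗[k] B := Algebra.TensorProduct.map (Algebra.ofId E K) (AlgHom.id k B)
  have hm : Function.Injective m := by
    intro x y h
    exact Module.Flat.rTensor_preserves_injective_linearMap (M := B)
      (IsScalarTower.toAlgHom k E K).toLinearMap (algebraMap E K).injective h
  let q : E ⊗[k] B →ₐ[E] (K ⊗[k] B) ⧸ nilradical (K ⊗[k] B) := (Ideal.Quotient.mkₐ E _).comp m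
  have hker : ∀ x, q x = 0 ↔ ψ x = 0 := fun x => by
    constructor
    · intro h
      have h' : IsNilpotent (m.toRingHom x) := mem_nilradical.mp (Ideal.Quotient.eq_zero_iff_mem.mp h)
      exact (((IsNilpotent.map_iff (f := m.toRingHom) hm).mp h').map ψ.toRingHom).eq_zero
    · intro h
      have hp := isPrime_nilradical_tensor k K B
      obtain ⟨n, hn⟩ := hψnil x h
      exact eq_zero_of_pow_eq_zero (n := n) (by rw [← map_pow, hn, map_zero])
  let i : A →ₐ[E] (K ⊗[k] B) ⧸ nilradical (K ⊗[k] B) :=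
    AlgHom.liftOfSurjective ψ hψ q (fun x hx => (hker x).mpr hx)
  have hlift : ∀ x, i (ψ x) = q x := fun x => AlgHom.liftOfSurjective_apply ..
  refine ⟨i, ?_, ?_⟩
  · rw [injective_iff_map_eq_zero]
    intro z hz
    obtain ⟨x, rfl⟩ := hψ z
    exact (hker x).mp ((hlift x).symm.trans hz)
  · intro r b
    rw [hlift]
    show Ideal.Quotient.mk _ (m (r ⊗ₜ b)) = _
    simp [m, Algebra.ofId_apply]

set_option maxHeartbeats 1600000 in
set_option synthInstance.maxHeartbeats 400000 in
theorem smooth_integralClosure_eventually [IsPurelyInseparable k K] [PerfectField K] [IsDomain B]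
    [Algebra.FiniteType k B] (hdim : ringKrullDim B ≤ 1) :
    ∃ S : Finset K, ∀ (E : Type u) [Field E] [Algebra k E] [Algebra E K] [IsScalarTower k E K],
      (S : Set K) ⊆ Set.range (algebraMap E K) →
      ∀ (A : Type u) [CommRing A] [IsDomain A] [Algebra E A]
        (ψ : E ⊗[k] B →ₐ[E] A), Function.Surjective ψ → (∀ x, ψ x = 0 → IsNilpotent x) →
        ∀ (L : Type u) [Field L] [Algebra A L] [IsFractionRing A L] [Algebra E L] [IsScalarTower E A L],
          Algebra.Smooth E (integralClosure A L) := by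
  classical
  let T := K ⊗[k] B
  have hP := isPrime_nilradical_tensor k K B
  let Ai := T ⧸ nilradical T
  have : IsDomain Ai := Ideal.Quotient.isDomain _
  let F := FractionRing Ai
  have : Algebra.FiniteType K Ai := Algebra.FiniteType.of_surjective (Ideal.Quotient.mkₐ K _)
    Ideal.Quotient.mk_surjective
  let N := integralClosure Ai F
  have hNfin : Module.Finite Ai N := CAlg6.finite_integralClosure K Ai F F
  have : Algebra.FiniteType K N := Algebra.FiniteType.trans (S := Ai) inferInstance inferInstance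
  have : IsIntegrallyClosed N := by
    have : IsFractionRing N F := integralClosure.isFractionRing_of_finite_extension F F
    exact (isIntegrallyClosed_iff_isIntegrallyClosedIn F).mpr inferInstance
  let ib : B →+* Ai := (Ideal.Quotient.mk (nilradical T)).comp
    (Algebra.TensorProduct.includeRight : B →ₐ[k] T).toRingHom
  have hib : ib.IsIntegral :=
    RingHom.IsIntegral.trans _ _ (isIntegral_comp_includeRight k K B)
      (RingHom.isIntegral_of_surjective _ Ideal.Quotient.mk_surjective)
  have hintB : ((algebraMap Ai N).comp ib).IsIntegral :=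
    RingHom.IsIntegral.trans ib (algebraMap Ai N) hib fun y => Algebra.IsIntegral.isIntegral (R := Ai) y
  have hdimN : ringKrullDim N ≤ 1 := by
    let := ((algebraMap Ai N).comp ib).toAlgebra
    have : Algebra.IsIntegral B N := ⟨fun x => hintB x⟩
    exact ringKrullDim_le_of_isIntegral.trans hdim
  have hsm : Algebra.Smooth K N := smooth_of_normal_dim_le_one K N hdimN
  obtain ⟨sN, hsN⟩ := (inferInstance : Algebra.FiniteType K N).out
  obtain ⟨sB, hsB⟩ := (inferInstance : Algebra.FiniteType k B).out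
  let σ := ↥sB ⊕ ↥sN
  let v : σ → N := Sum.elim (fun b => algebraMap Ai N (ib b)) (fun g => g)
  have hπ : Function.Surjective (MvPolynomial.aeval (R := K) v) := by
    rw [← AlgHom.range_eq_top, ← Algebra.adjoin_range_eq_range_aeval, eq_top_iff, ← hsN]
    exact Algebra.adjoin_mono fun g hg => ⟨Sum.inr ⟨g, hg⟩, rfl⟩
  obtain ⟨gens, hgens⟩ := (IsNoetherian.noetherian (RingHom.ker (MvPolynomial.aeval (R := K) v)) :
    (RingHom.ker (MvPolynomial.aeval (R := K) v)).FG)
  have hfrac : ∀ i, ∃ a c : T, Ideal.Quotient.mk (nilradical T) c ≠ 0 ∧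
      algebraMap Ai F (Ideal.Quotient.mk _ a) / algebraMap Ai F (Ideal.Quotient.mk _ c) = (v i : F) := by
    intro i
    obtain ⟨a, c, hc, h⟩ := IsFractionRing.div_surjective (A := Ai) (v i : F)
    obtain ⟨a, rfl⟩ := Ideal.Quotient.mk_surjective a
    obtain ⟨c, rfl⟩ := Ideal.Quotient.mk_surjective c
    exact ⟨a, c, nonZeroDivisors.ne_zero hc, h⟩
  choose a c hc0 hac using hfrac
  choose coef hcoef using fun t : T => TensorProduct.exists_finset t
  let S : Finset K := (gens.biUnion fun p => p.support.image fun m => p.coeff m) ∪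
    Finset.univ.biUnion (fun i => (coef (a i)).image Prod.fst ∪ (coef (c i)).image Prod.fst)
  refine ⟨S, fun E _ _ _ _ hSE A _ _ _ ψ hψ hψnil L _ _ _ _ _ => ?_⟩
  obtain ⟨i, hiinj, hi⟩ := exists_embedding k K B E A ψ hψ hψnil
  obtain ⟨hNE, hdiv⟩ := smooth_model (E := E) v hπ (gens : Set _) hgens (fun p hp r hr => by
    obtain ⟨n, hn, rfl⟩ := MvPolynomial.mem_coeffs_iff.mp hr
    exact hSE (Finset.mem_union_left _ (Finset.mem_biUnion.mpr
      ⟨p, hp, Finset.mem_image_of_mem _ hn⟩)))
  let NE : Subalgebra E N := (MvPolynomial.aeval (R := E) v).range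
  let jF : N →ₐ[E] F := (integralClosure Ai F).val.restrictScalars E
  have hjF : Function.Injective jF := Subtype.val_injective
  let iA : Ai →ₐ[E] N := IsScalarTower.toAlgHom E Ai N
  let g : A →ₐ[E] F := (IsScalarTower.toAlgHom E Ai F).comp i
  have hginj : Function.Injective g := (IsFractionRing.injective Ai F).comp hiinj
  have hmem : ∀ t : T, (∀ z ∈ coef t, z.1 ∈ Set.range (algebraMap E K)) → ∃ w, i w = Ideal.Quotient.mk (nilradical T) t := by
    intro t ht
    rw [hcoef t, map_sum]
    have hex : ∀ z : {z // z ∈ coef t}, ∃ w, i w = Ideal.Quotient.mk (nilradical T) (z.1.1 ⊗ₜ[k] z.1.2) := by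
      intro z
      obtain ⟨r, hr⟩ := ht z.1 z.2
      exact ⟨_, (hi r z.1.2).trans (by rw [hr])⟩
    choose w hw using hex
    refine ⟨∑ z, w z, ?_⟩
    rw [map_sum, ← Finset.sum_coe_sort (coef t) (fun z => Ideal.Quotient.mk (nilradical T) (z.1 ⊗ₜ[k] z.2))]
    exact Finset.sum_congr rfl fun z _ => hw z
  have hAN : ∀ z : A, iA (i z) ∈ NE := by
    intro z
    obtain ⟨x, rfl⟩ := hψ z
    induction x using TensorProduct.induction_on with
    | zero => rw [map_zero, map_zero, map_zero]; exact zero_mem _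
    | tmul r b =>
      have : (r ⊗ₜ[k] b : E ⊗[k] B) = algebraMap E (E ⊗[k] B) r * ((1 : E) ⊗ₜ[k] b) := by
        simp [Algebra.TensorProduct.algebraMap_apply]
      rw [this, map_mul, AlgHom.commutes, map_mul, AlgHom.commutes, map_mul, AlgHom.commutes]
      refine mul_mem (NE.algebraMap_mem r) ?_
      rw [hi, map_one]
      let h : B →ₐ[k] N := ((IsScalarTower.toAlgHom k Ai N).comp (Ideal.Quotient.mkₐ k (nilradical T))).comp
        Algebra.TensorProduct.includeRight
      show h b ∈ NE.restrictScalars k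
      suffices (⊤ : Subalgebra k B) ≤ (NE.restrictScalars k).comap h from this trivial
      rw [← hsB, Algebra.adjoin_le_iff]
      intro b' hb'
      refine ⟨MvPolynomial.X (Sum.inl ⟨b', hb'⟩), ?_⟩
      simp [v, h, ib]
      rfl
    | add x y hx hy => rw [map_add, map_add, map_add]; exact add_mem hx hy
  have hintN : ∀ y : N, g.toRingHom.IsIntegralElem (jF y) := by
    intro y
    let fB : B →+* A := ψ.toRingHom.comp (Algebra.TensorProduct.includeRight : B →ₐ[k] E ⊗[k] B).toRingHom
    have h0 : i.toRingHom.comp fB = ib := RingHom.ext fun b => by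
      show i (ψ ((1 : E) ⊗ₜ[k] b)) = _
      rw [hi]
      simp [ib]
      rfl
    have h1 : i.toRingHom.IsIntegral := RingHom.IsIntegral.tower_top fB i.toRingHom (h0.symm ▸ hib)
    have h2 : ((algebraMap Ai N).comp i.toRingHom).IsIntegralElem y :=
      RingHom.IsIntegral.trans i.toRingHom (algebraMap Ai N) h1
        (fun z => Algebra.IsIntegral.isIntegral (R := Ai) z) y
    exact RingHom.IsIntegralElem.map h2 jF.toRingHom
  obtain ⟨eC⟩ := nonempty_algEquiv_integralClosure (L := L) g hginj (NE.map jF)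
    (fun z => ⟨_, hAN z, rfl⟩) (by rintro _ ⟨y, -, rfl⟩; exact hintN y)
    ⟨jF '' Set.range v, by rw [← AlgHom.map_adjoin, Algebra.adjoin_range_eq_range_aeval], by
      rintro _ ⟨_, ⟨j, rfl⟩, rfl⟩
      obtain ⟨z, hz⟩ := hmem (a j) fun p hp => hSE (Finset.mem_union_right _ (Finset.mem_biUnion.mpr
        ⟨j, Finset.mem_univ j, Finset.mem_union_left _ (Finset.mem_image_of_mem _ hp)⟩))
      obtain ⟨z', hz'⟩ := hmem (c j) fun p hp => hSE (Finset.mem_union_right _ (Finset.mem_biUnion.mpr
        ⟨j, Finset.mem_univ j, Finset.mem_union_right _ (Finset.mem_image_of_mem _ hp)⟩))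
      refine ⟨z, z', fun h => hc0 j (by rw [← hz', h, map_zero]), ?_⟩
      show (v j : F) = algebraMap Ai F (i z) / algebraMap Ai F (i z')
      rw [hz, hz', hac j]⟩
    (by
      intro y hy b hb hb0 hby
      obtain ⟨b, hb, rfl⟩ := hb
      obtain ⟨w, hw, hw'⟩ := hby
      have hyN : IsIntegral Ai y := by
        obtain ⟨p, hp, hp0⟩ := hy
        refine ⟨p.map i.toRingHom, hp.map _, ?_⟩
        rw [Polynomial.eval₂_map]
        exact hp0
      exact ⟨⟨y, hyN⟩, hdiv w b hw hb (IsRegular.of_ne_zero fun h => hb0 (by rw [h, map_zero])).left _ (hjF hw'), rfl⟩)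
  have : Algebra.Smooth E NE := hNE
  let eT := (Subalgebra.equivMapOfInjective NE jF hjF).trans eC
  exact Algebra.Smooth.of_equiv (A := ↥NE) (B := ↥(integralClosure A L)) eT

end Groth.Agent.PINorm31
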