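import Groth.Agent.PINorm31.DeltaEq
import Groth.Agent.FBase64.Chart
import Groth.Agent.VarNorm.Chart
import Groth.Agent.VarGal.UnramifiedBaseChange
import Groth.Agent.VarGal.SmoothGeomReg
import Groth.Agent.VarGal.GeomRed
import Groth.Agent.VarNormal.Scheme
import Groth.Agent.AlgGrp79.SepPoint
import Groth.Agent.SpFP87.IntegralDim
import Groth.Agent.S1585

/-! The δ-invariant of a curve singularity with separable normalization under extension of constants. -/

set_option autoImplicit false
set_option backward.isDefEq.respectTransparency.types false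

universe u

open CategoryTheory CategoryTheory.Limits AlgebraicGeometry TensorProduct

namespace Groth.Agent.PINorm31

attribute [local instance] Curv2.resAlgebra

/-- The normalization is smooth over codimension one points with separable residue fields above. -/
theorem mem_smoothLocus_normalization (k : Type u) [Field k] (X : Scheme.{u}) [X.Over (Spec (CommRingCat.of k))] [IsIntegral X] [LocallyOfFiniteType (X ↘ (Spec (CommRingCat.of k)))]
    [QuasiCompact (X.fromSpecStalk (genericPoint X))] [QuasiSeparated (X.fromSpecStalk (genericPoint X))]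
    [LocallyOfFinitePresentation (Curv2.normalizationι X ≫ (X ↘ (Spec (CommRingCat.of k))))]
    (x : ↥X) (hdim : ringKrullDim ↥(X.presheaf.stalk x) = 1)
    (hsep : letI : (Curv2.normalization X).Over (Spec (CommRingCat.of k)) := ⟨Curv2.normalizationι X ≫ (X ↘ (Spec (CommRingCat.of k)))⟩
      ∀ x' : ↥(Curv2.normalization X), Curv2.normalizationι X x' = x →
        GeometricallyReduced (Spec.map (CommRingCat.ofHom (Curv2.resMap k (Curv2.normalization X) x')))) :
    ∀ x' : ↥(Curv2.normalization X), Curv2.normalizationι X x' = x →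
      x' ∈ (Curv2.normalizationι X ≫ (X ↘ (Spec (CommRingCat.of k)))).smoothLocus := by
  let : (Curv2.normalization X).Over (Spec (CommRingCat.of k)) := ⟨Curv2.normalizationι X ≫ (X ↘ (Spec (CommRingCat.of k)))⟩
  obtain ⟨hfin, hdom, -, hint, hnorm⟩ := Groth.Agent.S1585.result k X
  let Y := Curv2.normalization X
  let ν : Y ⟶ X := Curv2.normalizationι X
  have : LocallyOfFiniteType (Y ↘ Spec (CommRingCat.of k)) :=
    inferInstanceAs (LocallyOfFiniteType (Curv2.normalizationι X ≫ (X ↘ Spec (CommRingCat.of k))))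
  have : IsLocallyNoetherian (Spec (CommRingCat.of k)) := inferInstance
  have : LocallyOfFinitePresentation (Y ↘ Spec (CommRingCat.of k)) := inferInstance
  have hsmooth : ∀ x' : Y, ν x' = x → x' ∈ (Y ↘ Spec (CommRingCat.of k)).smoothLocus := by
    intro x' hx'
    have hd : ringKrullDim (Y.presheaf.stalk x') ≤ 1 := by
      rw [ringKrullDim_stalk_eq_coheight]
      refine le_trans ?_ hdim.le
      rw [ringKrullDim_stalk_eq_coheight, ← hx']
      exact WithBot.coe_le_coe.mpr (Groth.Agent.SpFP87.coheight_le_of_integral ν x')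
    have : IsLocallyNoetherian Y := LocallyOfFiniteType.isLocallyNoetherian (Y ↘ Spec (CommRingCat.of k))
    obtain ⟨_, _⟩ := hnorm x'
    have : IsRegularLocalRing (Y.presheaf.stalk x') :=
      Groth.Agent.CAlg1.regular_of_isIntegrallyClosed_dim_le_one _ hd
    let := Curv2.resAlgebra k Y x'
    have : GeometricallyReduced (Spec.map (CommRingCat.ofHom (algebraMap k (Y.residueField x')))) := hsep x' hx'
    have : Algebra.IsGeometricallyReduced k (Y.residueField x') :=
      Groth.Agent.VarNormal.isGeometricallyReduced_of_specMap _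
    have : Algebra.EssFiniteType k (Y.residueField x') := by
      obtain ⟨A, _, _, j, _, ⟨q, rfl⟩, hj⟩ := Groth.Agent.FBase64.exists_chart (Y ↘ Spec (CommRingCat.of k)) x'
      have := Groth.Agent.VarGal.finiteType_of_chart _ j hj
      let := Curv2.stalkAlgebra k Y (j q)
      obtain ⟨e⟩ := Groth.Agent.VarGal.exists_stalk_algEquiv j hj q
      let φ : Localization.AtPrime (show PrimeSpectrum A from q).asIdeal →ₐ[k] Y.residueField (j q) :=
        { (Y.residue (j q)).hom.comp e.symm.toRingEquiv.toRingHom with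
          commutes' := fun r => congrArg (Y.residue (j q)).hom (e.symm.commutes r) }
      have : Algebra.EssFiniteType k (Localization.AtPrime (show PrimeSpectrum A from q).asIdeal) :=
        Algebra.EssFiniteType.comp k A _
      exact Algebra.EssFiniteType.of_surjective φ
        (((Y.residue_surjective (j q)).comp e.symm.surjective))
    have : IsReduced (TensorProduct k (AlgebraicClosure k) (Y.residueField x')) :=
      (Algebra.isGeometricallyReduced_field_iff (k := k) (A := Y.residueField x')).mp inferInstance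
    have : Algebra.FormallySmooth k (Y.residueField x') :=
      Groth.Agent.AlgGrp79.formallySmooth_of_geomReduced_field k _
    exact Groth.Agent.VarGal.mem_smoothLocus_of_regular x'
  exact hsmooth

theorem deltaInv_bc_eq (k : Type u) [Field k] (X : Scheme.{u}) [X.Over (Spec (CommRingCat.of k))]
    [IsIntegral X] [LocallyOfFiniteType (X ↘ (Spec (CommRingCat.of k)))]
    [QuasiCompact (X.fromSpecStalk (genericPoint X))] [QuasiSeparated (X.fromSpecStalk (genericPoint X))]
    (K : Type u) [Field K] [Algebra k K] (y : ↥(Curv2.bc k X K))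
    (hdx : ringKrullDim (X.presheaf.stalk ((Curv2.bcFst k X K).base y)) = 1)
    (hsep : letI : (Curv2.normalization X).Over (Spec (CommRingCat.of k)) :=
        ⟨Curv2.normalizationι X ≫ (X ↘ (Spec (CommRingCat.of k)))⟩
      ∀ x' : ↥(Curv2.normalization X), (Curv2.normalizationι X).base x' = (Curv2.bcFst k X K).base y →
        GeometricallyReduced (Spec.map (CommRingCat.ofHom (Curv2.resMap k (Curv2.normalization X) x'))))
    (hdy : ringKrullDim ((Curv2.bc k X K).presheaf.stalk y) = 1) :
    Curv2.deltaInv (X.presheaf.stalk ((Curv2.bcFst k X K).base y)) =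
      Curv2.deltaInv ((Curv2.bc k X K).presheaf.stalk y) := by
  let : (Curv2.normalization X).Over (Spec (CommRingCat.of k)) :=
    ⟨Curv2.normalizationι X ≫ (X ↘ (Spec (CommRingCat.of k)))⟩
  let fX := X ↘ (Spec (CommRingCat.of k))
  set x := (Curv2.bcFst k X K).base y with hxdef
  obtain ⟨hfin, hdom, -, -, -⟩ := Groth.Agent.S1585.result k X
  have : LocallyOfFiniteType (Curv2.normalizationι X ≫ fX) := inferInstance
  have : LocallyOfFinitePresentation (Curv2.normalizationι X ≫ fX) := inferInstance
  have hsm' := mem_smoothLocus_normalization k X x hdx hsep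
  obtain ⟨U, hU, hxU, -⟩ := exists_isAffineOpen_mem_and_subset (U := ⊤) (show x ∈ (⊤ : X.Opens) from trivial)
  have : Nonempty U := ⟨⟨x, hxU⟩⟩
  let R : Type u := Γ(X, U)
  let θ : CommRingCat.of k ⟶ Γ(X, U) := (Scheme.ΓSpecIso (CommRingCat.of k)).inv ≫ fX.appLE ⊤ U le_top
  let := θ.hom.toAlgebra
  have hj : hU.fromSpec ≫ fX = Spec.map (CommRingCat.ofHom (algebraMap k Γ(X, U))) := by
    rw [← IsAffineOpen.SpecMap_appLE_fromSpec fX (isAffineOpen_top _) hU le_top,
      IsAffineOpen.fromSpec_top, Scheme.isoSpec_Spec_inv, ← Spec.map_comp]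
    rfl
  have : Algebra.FiniteType k Γ(X, U) := VarGal.finiteType_of_chart fX hU.fromSpec hj
  set t := Spec.map (CommRingCat.ofHom (algebraMap k K))
  let c := FBase64.prodChart fX t hU.fromSpec (𝟙 _) hj (Category.id_comp _)
  let W : (Curv2.bc k X K).Opens := c ''ᵁ ⊤
  have hW : IsAffineOpen W := (isAffineOpen_top _).image_of_isOpenImmersion c
  have hyW : y ∈ W := by
    have h : y ∈ Set.range c := by
      rw [FBase64.range_prodChart]
      refine ⟨?_, ⟨_, rfl⟩⟩
      show x ∈ Set.range hU.fromSpec
      rw [IsAffineOpen.range_fromSpec]; exact hxU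
    obtain ⟨z, hz⟩ := h
    exact ⟨z, trivial, hz⟩
  have hWU : W ≤ Curv2.bcFst k X K ⁻¹ᵁ U := by
    rintro _ ⟨z, -, rfl⟩
    show (c ≫ pullback.fst fX t) z ∈ U
    rw [FBase64.prodChart_fst, Scheme.Hom.comp_apply]
    have h : hU.fromSpec ((Spec.map (CommRingCat.ofHom (algebraMap Γ(X, U) (Γ(X, U) ⊗[k] K)))) z) ∈
        Set.range hU.fromSpec := ⟨_, rfl⟩
    rwa [IsAffineOpen.range_fromSpec] at h
  let e : Γ(X, U) ⊗[k] K ≃+* Γ(Curv2.bc k X K, W) :=
    ((c.appIso ⊤ ≪≫ Scheme.ΓSpecIso (CommRingCat.of (Γ(X, U) ⊗[k] K))).commRingCatIsoToRingEquiv).symm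
  have he : ∀ r : Γ(X, U), e (algebraMap Γ(X, U) (Γ(X, U) ⊗[k] K) r) =
      (Curv2.bcFst k X K).appLE U W hWU r := by
    intro r
    apply e.symm.injective
    rw [e.symm_apply_apply]
    show _ = ((Curv2.bcFst k X K).appLE U W hWU ≫ (c.appIso ⊤).hom ≫
      (Scheme.ΓSpecIso (CommRingCat.of (Γ(X, U) ⊗[k] K))).hom).hom r
    have hc : c ≫ Curv2.bcFst k X K =
        Spec.map (CommRingCat.ofHom (algebraMap Γ(X, U) (Γ(X, U) ⊗[k] K))) ≫ hU.fromSpec :=
      FBase64.prodChart_fst _ _ _ _ _ _
    have h1 : (Curv2.bcFst k X K).appLE U W hWU ≫ (c.appIso ⊤).hom ≫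
        (Scheme.ΓSpecIso (CommRingCat.of (Γ(X, U) ⊗[k] K))).hom =
        CommRingCat.ofHom (algebraMap Γ(X, U) (Γ(X, U) ⊗[k] K)) := by
      have hle : (⊤ : (Spec (CommRingCat.of (Γ(X, U) ⊗[k] K))).Opens) ≤ (c ≫ Curv2.bcFst k X K) ⁻¹ᵁ U := by
        intro z _
        exact hWU ⟨z, trivial, rfl⟩
      have h2 : (Curv2.bcFst k X K).appLE U W hWU ≫ (c.appIso ⊤).hom = (c ≫ Curv2.bcFst k X K).appLE U ⊤ hle := by
        rw [Scheme.Hom.appIso_hom']
        erw [Scheme.Hom.appLE_comp_appLE]
      rw [← Category.assoc, h2]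
      suffices ∀ g : Spec (CommRingCat.of (Γ(X, U) ⊗[k] K)) ⟶ X,
          g = Spec.map (CommRingCat.ofHom (algebraMap Γ(X, U) (Γ(X, U) ⊗[k] K))) ≫ hU.fromSpec →
          ∀ le, g.appLE U ⊤ le ≫ (Scheme.ΓSpecIso (CommRingCat.of (Γ(X, U) ⊗[k] K))).hom =
            CommRingCat.ofHom (algebraMap Γ(X, U) (Γ(X, U) ⊗[k] K)) from this _ hc hle
      intro g hg le
      subst hg
      rw [← Scheme.Hom.appLE_comp_appLE _ _ U ⊤ ⊤ (by rw [hU.fromSpec_preimage_self]) le_top]
      have h3 : hU.fromSpec.appLE U ⊤ (by rw [hU.fromSpec_preimage_self]) = (Scheme.ΓSpecIso Γ(X, U)).inv := by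
        rw [Scheme.Hom.appLE, hU.fromSpec_app_self, Category.assoc, ← Functor.map_comp]
        exact (congrArg ((Scheme.ΓSpecIso Γ(X, U)).inv ≫ ·) (CategoryTheory.Functor.map_id _ _)).trans (Category.comp_id _)
      have h4 : (Spec.map (CommRingCat.ofHom (algebraMap Γ(X, U) (Γ(X, U) ⊗[k] K)))).appLE ⊤ ⊤ le_top =
          (Spec.map (CommRingCat.ofHom (algebraMap Γ(X, U) (Γ(X, U) ⊗[k] K)))).appTop :=
        (Scheme.Hom.app_eq_appLE _).symm
      rw [h3, Category.assoc, h4]
      erw [Scheme.ΓSpecIso_naturality, Iso.inv_hom_id_assoc]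
    rw [h1]
    rfl
  let A := X.presheaf.stalk x
  let B := (Curv2.bc k X K).presheaf.stalk y
  let : Algebra Γ(X, U) A := TopCat.Presheaf.algebra_section_stalk X.presheaf ⟨x, hxU⟩
  let : Algebra Γ(Curv2.bc k X K, W) B :=
    TopCat.Presheaf.algebra_section_stalk (Curv2.bc k X K).presheaf ⟨y, hyW⟩
  let p := (hU.primeIdealOf ⟨x, hxU⟩).asIdeal
  let P' := (hW.primeIdealOf ⟨y, hyW⟩).asIdeal
  let P : Ideal (Γ(X, U) ⊗[k] K) := P'.comap e.toRingHom
  have := hU.isLocalization_stalk ⟨x, hxU⟩
  have := hW.isLocalization_stalk ⟨y, hyW⟩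
  let : Algebra (Γ(X, U) ⊗[k] K) B := ((algebraMap Γ(Curv2.bc k X K, W) B).comp e.toRingHom).toAlgebra
  let : Algebra Γ(X, U) B := ((algebraMap (Γ(X, U) ⊗[k] K) B).comp (algebraMap Γ(X, U) _)).toAlgebra
  have : IsScalarTower Γ(X, U) (Γ(X, U) ⊗[k] K) B := IsScalarTower.of_algebraMap_eq fun _ => rfl
  have : IsLocalization.AtPrime B P := by
    have h := IsLocalization.isLocalization_of_base_ringEquiv P'.primeCompl B e.symm
    have hP : P'.primeCompl.map e.symm = P.primeCompl := by
      ext z
      refine ⟨fun ⟨w, hw, hwz⟩ h => hw ?_, fun hz => ⟨e z, hz, e.symm_apply_apply z⟩⟩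
      rw [← hwz] at h
      have h' : e (e.symm w) ∈ P' := h
      rwa [e.apply_symm_apply] at h'
    rw [hP] at h
    exact h
  let := ((Curv2.bcFst k X K).stalkMap y).hom.toAlgebra
  have : IsScalarTower Γ(X, U) A B := IsScalarTower.of_algebraMap_eq fun r => by
    show algebraMap Γ(Curv2.bc k X K, W) B (e (algebraMap Γ(X, U) _ r)) =
      ((Curv2.bcFst k X K).stalkMap y).hom (X.presheaf.germ U x hxU r)
    rw [he]
    show ((Curv2.bcFst k X K).appLE U W hWU ≫ (Curv2.bc k X K).presheaf.germ W y hyW).hom r =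
      (X.presheaf.germ U x hxU ≫ (Curv2.bcFst k X K).stalkMap y).hom r
    congr 2
    rw [Scheme.Hom.germ_stalkMap, Scheme.Hom.appLE, Category.assoc, TopCat.Presheaf.germ_res]
  have : IsLocalHom (algebraMap A B) :=
    inferInstanceAs (IsLocalHom ((Curv2.bcFst k X K).stalkMap y).hom)
  have : Flat (Curv2.bcFst k X K) := by
    have : Flat t := by
      rw [HasRingHomProperty.Spec_iff (P := @Flat)]
      exact RingHom.flat_algebraMap_iff.mpr inferInstance
    show Flat (pullback.fst _ _)
    infer_instance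
  have : Module.Flat A B := Flat.stalkMap (Curv2.bcFst k X K) y
  have hres : ∀ x' : Curv2.normalization X, Curv2.normalizationι X x' = x →
      _root_.IsReduced (X.residueField (Curv2.normalizationι X x') ⊗[k] K) := by
    intro x' hx'
    let := Curv2.resAlgebra k (Curv2.normalization X) x'
    have : GeometricallyReduced (Spec.map (CommRingCat.ofHom
      (algebraMap k ((Curv2.normalization X).residueField x')))) := hsep x' hx'
    have := VarNormal.isGeometricallyReduced_of_specMap (k := k) ((Curv2.normalization X).residueField x')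
    let φ : X.residueField (Curv2.normalizationι X x') →ₐ[k] (Curv2.normalization X).residueField x' :=
      { ((Curv2.normalizationι X).residueFieldMap x').hom with
        commutes' := fun r => by
          have h : CommRingCat.ofHom (Curv2.resMap k X (Curv2.normalizationι X x')) ≫
              (Curv2.normalizationι X).residueFieldMap x' =
              CommRingCat.ofHom (Curv2.resMap k (Curv2.normalization X) x') := by
            apply Spec.map_injective
            rw [Spec.map_comp, VarGal.SpecMap_resMap, VarGal.SpecMap_resMap,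
              Scheme.Hom.SpecMap_residueFieldMap_fromSpecResidueField_assoc]
            rfl
          exact DFunLike.congr_fun (congrArg CommRingCat.Hom.hom h) r }
    have := Algebra.IsGeometricallyReduced.of_injective φ φ.toRingHom.injective
    have := FBase64.isReduced_tensor_of_geomReduced k (X.residueField (Curv2.normalizationι X x')) K
    exact FBase64.isReduced_tensor_comm
  have : Surjective (Curv2.normalizationι X) := ⟨by
    rw [← Set.range_eq_univ, ← (Curv2.normalizationι X).isClosedMap.isClosed_range.closure_eq]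
    exact hdom.1.closure_range⟩
  obtain ⟨x₀, hx₀⟩ := (Curv2.normalizationι X).surjective x
  have hm : (IsLocalRing.maximalIdeal A).map (algebraMap A B) = IsLocalRing.maximalIdeal B :=
    VarGal.map_maximalIdeal_of_dim_eq K y (hdx.trans hdy.symm) (by
      have h := hres x₀ hx₀
      rw [hx₀] at h
      exact h)
  refine deltaInv_localization_eq k Γ(X, U) K A B p P hm fun L _ _ _ _ _ q hq => ?_
  obtain ⟨q', hq', _, hqp⟩ := Ideal.exists_ideal_over_prime_of_isIntegral p q.asIdeal hq
  let Q' : PrimeSpectrum (integralClosure Γ(X, U) L) := ⟨q', inferInstance⟩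
  obtain ⟨g, _, -, hg⟩ := VarNorm.exists_chart X U hU
  have := functionField_isFractionRing_of_isAffineOpen X U hU
  let eL : L ≃ₐ[Γ(X, U)] X.functionField := IsLocalization.algEquiv (nonZeroDivisors Γ(X, U)) L X.functionField
  let eN := eL.mapIntegralClosure
  let i : Spec (CommRingCat.of (integralClosure Γ(X, U) L)) ⟶ Curv2.normalization X :=
    Spec.map (CommRingCat.ofHom eN.symm.toAlgHom.toRingHom) ≫ g
  have : IsIso (CommRingCat.ofHom eN.symm.toAlgHom.toRingHom) := eN.symm.toRingEquiv.toCommRingCatIso.isIso_hom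
  have : IsOpenImmersion i := inferInstance
  have hi : i ≫ Curv2.normalizationι X =
      Spec.map (CommRingCat.ofHom (algebraMap Γ(X, U) (integralClosure Γ(X, U) L))) ≫ hU.fromSpec := by
    rw [Category.assoc, hg, ← Spec.map_comp_assoc, ← CommRingCat.ofHom_comp]
    congr 3
    exact eN.symm.toAlgHom.comp_algebraMap
  have hik : i ≫ (Curv2.normalizationι X ≫ fX) =
      Spec.map (CommRingCat.ofHom (algebraMap k (integralClosure Γ(X, U) L))) := by
    rw [← Category.assoc, hi, Category.assoc, hj, ← Spec.map_comp, ← CommRingCat.ofHom_comp,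
      ← IsScalarTower.algebraMap_eq]
  have hover : Curv2.normalizationι X (i Q') = x := by
    rw [← Scheme.Hom.comp_apply, hi, Scheme.Hom.comp_apply]
    exact (congrArg hU.fromSpec (PrimeSpectrum.ext hqp)).trans (hU.fromSpec_primeIdealOf ⟨x, hxU⟩)
  have hQ : Q' ∈ Algebra.smoothLocus k (integralClosure Γ(X, U) L) :=
    (VarGal.mem_smoothLocus_chart_iff (Curv2.normalizationι X ≫ fX) i hik Q').mp (hsm' _ hover)
  have : Algebra.FiniteType k (integralClosure Γ(X, U) L) :=
    VarGal.finiteType_of_chart (Curv2.normalizationι X ≫ fX) i hik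
  have : Algebra.FinitePresentation k (integralClosure Γ(X, U) L) := Algebra.FinitePresentation.of_finiteType.mp ‹_›
  exact ((PrimeSpectrum.le_iff_specializes q Q').mp hq').mem_open Algebra.isOpen_smoothLocus hQ

end Groth.Agent.PINorm31
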