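import Groth.Agent.PINorm31.DeltaFlat
import Groth.Agent.CAlg5.SmoothRegular
import Groth.Agent.CAlg1.Regular
import Groth.Agent.CAlg6.RegularNormal
import Groth.Agent.CAlg6.FiniteClosure
import Mathlib.RingTheory.LocalRing.Length
import Mathlib.RingTheory.Smooth.Locus
import Mathlib.RingTheory.Localization.Integral
import Mathlib.RingTheory.IntegralClosure.IntegrallyClosed

/-! Equality of δ-invariants along a flat local map with normal base change of the normalization. -/

set_option autoImplicit false

universe u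

open TensorProduct

namespace Groth.Agent.PINorm31

theorem mem_range_of_normal {B T : Type u} [CommRing B] [CommRing T] [Algebra B T]
    (ψ : T →ₐ[B] FractionRing B) (hψ : Function.Injective ψ)
    (hT : ∀ (Q : Ideal T) [Q.IsPrime],
      IsDomain (Localization.AtPrime Q) ∧ IsIntegrallyClosed (Localization.AtPrime Q))
    (y : FractionRing B) (hy : IsIntegral B y) : ∃ t, ψ t = y := by
  let FB := FractionRing B
  obtain ⟨b, s, rfl⟩ := IsLocalization.exists_mk'_eq (nonZeroDivisors B) y
  let J : Ideal T :=
    { carrier := {t | ∃ t', ψ t * IsLocalization.mk' FB b s = ψ t'}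
      add_mem' := by
        rintro x z ⟨x', hx⟩ ⟨z', hz⟩
        exact ⟨x' + z', by rw [map_add, map_add, add_mul, hx, hz]⟩
      zero_mem' := ⟨0, by simp⟩
      smul_mem' := by
        rintro r x ⟨x', hx⟩
        exact ⟨r * x', by rw [smul_eq_mul, map_mul, map_mul, mul_assoc, hx]⟩ }
  by_cases hJ : J = ⊤
  · obtain ⟨t', ht'⟩ : (1 : T) ∈ J := hJ ▸ Submodule.mem_top
    exact ⟨t', by simpa using ht'.symm⟩
  obtain ⟨Q, hQ, hJQ⟩ := Ideal.exists_le_maximal J hJ
  have := hQ.isPrime
  obtain ⟨_, _⟩ := hT Q
  let L := Localization.AtPrime Q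
  let FL := FractionRing L
  have hsreg : IsRegular (algebraMap B T (s : B)) := by
    suffices hl : IsLeftRegular (algebraMap B T (s : B)) from
      ⟨hl, fun u w h => hl (by simpa [mul_comm] using h)⟩
    intro u w h
    apply hψ
    have h' := congrArg ψ h
    simp only [map_mul, AlgHom.commutes] at h'
    exact (IsLocalization.map_units FB s).mul_left_cancel h'
  have hs0 : algebraMap T L (algebraMap B T (s : B)) ≠ 0 := by
    intro h0
    obtain ⟨⟨v, hv⟩, hv'⟩ := (IsLocalization.map_eq_zero_iff Q.primeCompl L _).mp h0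
    have h1 : v = 0 := hsreg.left (by
      show algebraMap B T (s : B) * v = algebraMap B T (s : B) * 0
      rw [mul_zero, mul_comm]
      exact hv')
    exact hv (h1 ▸ Q.zero_mem)
  let χ : B →+* FL := (algebraMap L FL).comp ((algebraMap T L).comp (algebraMap B T))
  let ys : FL := χ b / χ s
  have hs1 : χ s ≠ 0 := (map_ne_zero_iff _ (IsFractionRing.injective L FL)).mpr hs0
  obtain ⟨p, hp, hp0⟩ := hy
  -- clear denominators
  have hq : (p.scaleRoots (s : B)).eval b = 0 := by
    apply IsFractionRing.injective B FB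
    rw [map_zero, ← Polynomial.eval₂_at_apply]
    have := Polynomial.scaleRoots_eval₂_mul (algebraMap B FB) (IsLocalization.mk' FB b s) (s : B) (p := p)
    rw [hp0, mul_zero, IsLocalization.mk'_spec'] at this
    exact this
  have hys : p.eval₂ χ ys = 0 := by
    have := Polynomial.scaleRoots_eval₂_mul χ ys (s : B) (p := p)
    rw [show χ s * ys = χ b from mul_div_cancel₀ _ hs1, Polynomial.eval₂_at_apply, hq, map_zero] at this
    exact (mul_eq_zero.mp this.symm).resolve_left (pow_ne_zero _ hs1)
  have hint : IsIntegral L ys := by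
    refine ⟨p.map ((algebraMap T L).comp (algebraMap B T)), hp.map _, ?_⟩
    rw [Polynomial.eval₂_map]
    exact hys
  obtain ⟨w, hw⟩ := IsIntegrallyClosed.isIntegral_iff.mp hint
  obtain ⟨t, v, rfl⟩ := IsLocalization.exists_mk'_eq Q.primeCompl w
  have hw' : algebraMap L FL (IsLocalization.mk' L t v * algebraMap T L (algebraMap B T (s : B))) =
      algebraMap L FL (algebraMap T L (algebraMap B T b)) := by
    rw [map_mul, hw]
    exact div_mul_cancel₀ _ hs1
  have h2 : algebraMap T L (t * algebraMap B T (s : B)) = algebraMap T L (v * algebraMap B T b) := by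
    rw [map_mul, map_mul, ← IsFractionRing.injective L FL hw', ← IsLocalization.mk'_spec L t v]
    ring
  obtain ⟨u, hu⟩ := (IsLocalization.eq_iff_exists Q.primeCompl L).mp h2
  have hmem : (u : T) * v ∈ J := by
    refine ⟨u * t, (IsLocalization.map_units FB s).mul_right_cancel ?_⟩
    have h3 := congrArg ψ hu
    simp only [map_mul, AlgHom.commutes] at h3
    rw [mul_assoc, IsLocalization.mk'_spec, map_mul, map_mul]
    linear_combination -h3
  exact absurd (hJQ hmem) (fun h => (hQ.isPrime.mem_or_mem h).elim u.2 v.2)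

set_option maxHeartbeats 800000 in
set_option synthInstance.maxHeartbeats 200000 in
theorem deltaInv_eq_of_normal (A B : Type u) [CommRing A] [CommRing B] [Algebra A B] [IsLocalRing A]
    [IsLocalRing B] [IsLocalHom (algebraMap A B)] [Module.Flat A B]
    (hm : (IsLocalRing.maximalIdeal A).map (algebraMap A B) = IsLocalRing.maximalIdeal B)
    (hT : ∀ (Q : Ideal (B ⊗[A] integralClosure A (FractionRing A))) [Q.IsPrime],
      IsDomain (Localization.AtPrime Q) ∧ IsIntegrallyClosed (Localization.AtPrime Q)) :
    Curv2.deltaInv A = Curv2.deltaInv B := by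
  obtain ⟨ψ, hψ, hψint⟩ := exists_comparison A B
  obtain ⟨e, he, he'⟩ := exists_quotient_map A B ψ hψ hψint
  have hsurj : ∀ y ∈ integralClosure B (FractionRing B), ∃ t, ψ t = y := fun y hy =>
    mem_range_of_normal ψ hψ hT y hy
  have hl : Module.length B (B ⧸ (IsLocalRing.maximalIdeal A).map (algebraMap A B)) = 1 := by
    rw [hm]
    have : IsSimpleModule B (B ⧸ IsLocalRing.maximalIdeal B) :=
      isSimpleModule_iff_quot_maximal.mpr ⟨_, inferInstance, ⟨LinearEquiv.refl _ _⟩⟩
    exact Module.length_eq_one B _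
  let eQ := LinearEquiv.ofBijective e ⟨he, he' hsurj⟩
  rw [Curv2.deltaInv, Curv2.deltaInv, ← eQ.length_eq, IsLocalRing.length_baseChange A B, hl, mul_one]

/-- Regularity of the extension of constants at primes over smooth points. -/
theorem regular_tensor_of_isSmoothAt (k K N : Type u) [Field k] [Field K] [Algebra k K] [CommRing N]
    [Algebra k N] [Algebra.FiniteType k N] (q : Ideal (K ⊗[k] N)) [q.IsPrime]
    (hs : Algebra.IsSmoothAt k (q.comap (Algebra.TensorProduct.includeRight : N →ₐ[k] K ⊗[k] N).toRingHom)) :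
    IsRegularLocalRing (Localization.AtPrime q) := by
  have : Algebra.FinitePresentation k N := Algebra.FinitePresentation.of_finiteType.mp ‹_›
  have := hs
  obtain ⟨g, hg, hgs⟩ := Algebra.IsSmoothAt.exists_notMem_smooth k
    (q.comap (Algebra.TensorProduct.includeRight : N →ₐ[k] K ⊗[k] N).toRingHom)
  have h1 : Algebra.Smooth K (Localization.Away ((1 : K) ⊗ₜ[k] g)) :=
    Algebra.Smooth.of_equiv (IsLocalization.Away.tensorProductEquivTMulRight k K g (Localization.Away g))
  have : Algebra.IsSmoothAt K q :=
    (Algebra.basicOpen_subset_smoothLocus_iff_smooth.mpr h1)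
      (show (⟨q, inferInstance⟩ : PrimeSpectrum (K ⊗[k] N)) ∈ PrimeSpectrum.basicOpen ((1 : K) ⊗ₜ[k] g) from hg)
  exact CAlg5.regular_of_isSmoothAt K (K ⊗[k] N) q

/-- The base change of a localization to a localization. -/
theorem nonempty_algEquiv_tensor_localization (R A N A' : Type u) [CommRing R] [CommRing A] [Algebra R A]
    (M : Submonoid R) [IsLocalization M A] [CommRing N] [Algebra R N] [CommRing A'] [Algebra N A']
    [Algebra R A'] [Algebra A A'] [IsScalarTower R N A'] [IsScalarTower R A A']
    [IsLocalization (Algebra.algebraMapSubmonoid N M) A'] :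
    Nonempty (A' ≃ₐ[A] A ⊗[R] N) := by
  let e : A' ≃ₐ[N] N ⊗[R] A :=
    IsLocalization.algEquiv (Algebra.algebraMapSubmonoid N M) A' (N ⊗[R] A)
  let f : A' ≃+* A ⊗[R] N := e.toRingEquiv.trans (Algebra.TensorProduct.comm R N A).toRingEquiv
  refine ⟨AlgEquiv.ofRingEquiv (f := f) fun a => ?_⟩
  refine DFunLike.congr_fun (IsLocalization.ringHom_ext M (S := A) (j :=
    f.toRingHom.comp (algebraMap A A')) (k := algebraMap A (A ⊗[R] N)) ?_) a
  ext r
  show Algebra.TensorProduct.comm R N A (e (algebraMap A A' (algebraMap R A r))) =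
    algebraMap A (A ⊗[R] N) (algebraMap R A r)
  rw [← IsScalarTower.algebraMap_apply R A A', IsScalarTower.algebraMap_apply R N A', AlgEquiv.commutes,
    ← IsScalarTower.algebraMap_apply R A (A ⊗[R] N), ← IsScalarTower.algebraMap_apply R N (N ⊗[R] A)]
  exact (Algebra.TensorProduct.comm R N A).commutes r

/-- Localizations of `B ⊗ A'` are localizations of `(R ⊗ K) ⊗ N`, where `A' = A ⊗ N`. -/
theorem exists_prime_equiv (R C A B N A' : Type u) [CommRing R] [CommRing C] [Algebra R C] [CommRing A]
    [Algebra R A] [CommRing B] [Algebra C B] [Algebra R B] [IsScalarTower R C B] [Algebra A B]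
    [IsScalarTower R A B] (M : Submonoid R) [IsLocalization M A] (P : Ideal C) [P.IsPrime]
    [IsLocalization.AtPrime B P]
    [CommRing N] [Algebra R N] [CommRing A'] [Algebra A A'] (eA : A' ≃ₐ[A] A ⊗[R] N)
    (Q : Ideal (B ⊗[A] A')) [Q.IsPrime] :
    ∃ (q₀ : Ideal (C ⊗[R] N)) (_ : q₀.IsPrime), q₀.comap (algebraMap C (C ⊗[R] N)) ≤ P ∧
      Nonempty (Localization.AtPrime Q ≃+* Localization.AtPrime q₀) := by
  let e₁ : B ⊗[A] A' ≃+* B ⊗[C] (C ⊗[R] N) :=
    ((Algebra.TensorProduct.congr (AlgEquiv.refl (R := B) (A₁ := B)) eA).toRingEquiv.trans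
      (Algebra.TensorProduct.cancelBaseChange R A B B N).toRingEquiv).trans
      (Algebra.TensorProduct.cancelBaseChange R C B B N).symm.toRingEquiv
  let U := C ⊗[R] N
  let e₂ : B ⊗[A] A' ≃+* U ⊗[C] B := e₁.trans (Algebra.TensorProduct.comm C B U).toRingEquiv
  let T₂ := U ⊗[C] B
  let Q₂ : Ideal T₂ := Q.comap e₂.symm.toRingHom
  have : IsLocalization (Algebra.algebraMapSubmonoid U P.primeCompl) T₂ := IsLocalization.tensor B P.primeCompl
  let q₀ : Ideal U := Q₂.comap (algebraMap U T₂)
  refine ⟨q₀, inferInstance, fun c hc => ?_, ?_⟩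
  · by_contra hcP
    have hu : IsUnit (algebraMap U T₂ (algebraMap C U c)) :=
      IsLocalization.map_units T₂ (⟨_, c, hcP, rfl⟩ : Algebra.algebraMapSubmonoid U P.primeCompl)
    exact (Ideal.IsPrime.ne_top inferInstance) (Ideal.eq_top_of_isUnit_mem Q₂ hc hu)
  have : IsLocalization.AtPrime (Localization.AtPrime Q₂) q₀ :=
    IsLocalization.isLocalization_isLocalization_atPrime_isLocalization
      (Algebra.algebraMapSubmonoid U P.primeCompl) (Localization.AtPrime Q₂) Q₂
  let e₄ : Localization.AtPrime Q ≃+* Localization.AtPrime Q₂ :=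
    IsLocalization.ringEquivOfRingEquiv (M := Q.primeCompl) (T := Q₂.primeCompl) _ _ e₂
      (Submonoid.ext fun z => ⟨fun ⟨w, hw, hwz⟩ h => hw (by
          have h' : e₂.symm z ∈ Q := h
          rw [← hwz] at h'
          change e₂.symm (e₂ w) ∈ Q at h'
          rwa [e₂.symm_apply_apply] at h'),
        fun hz => ⟨e₂.symm z, hz, e₂.apply_symm_apply z⟩⟩)
  exact ⟨e₄.trans (IsLocalization.algEquiv q₀.primeCompl (Localization.AtPrime Q₂)
      (Localization.AtPrime q₀)).toRingEquiv⟩

set_option maxHeartbeats 800000 in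
set_option synthInstance.maxHeartbeats 100000 in
/-- Equality for localizations of a finite type algebra and of its extension of constants,
when the normalization is smooth over the point. -/
theorem deltaInv_localization_eq (k R K A B : Type u) [Field k] [CommRing R] [IsDomain R] [Algebra k R]
    [Algebra.FiniteType k R] [Field K] [Algebra k K]
    (p : Ideal R) [p.IsPrime] (P : Ideal (R ⊗[k] K)) [P.IsPrime]
    [CommRing A] [Algebra R A] [IsLocalization.AtPrime A p] [IsLocalRing A]
    [CommRing B] [Algebra (R ⊗[k] K) B] [IsLocalization.AtPrime B P] [IsLocalRing B]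
    [Algebra R B] [IsScalarTower R (R ⊗[k] K) B]
    [Algebra A B] [IsScalarTower R A B] [IsLocalHom (algebraMap A B)] [Module.Flat A B]
    (hm : (IsLocalRing.maximalIdeal A).map (algebraMap A B) = IsLocalRing.maximalIdeal B)
    (hsm : ∀ (L : Type u) [Field L] [Algebra R L] [IsFractionRing R L] [Algebra k L] [IsScalarTower k R L],
      ∀ q : PrimeSpectrum (integralClosure R L),
        q.asIdeal.comap (algebraMap R (integralClosure R L)) ≤ p → Algebra.IsSmoothAt k q.asIdeal) :
    Curv2.deltaInv A = Curv2.deltaInv B := by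
  refine deltaInv_eq_of_normal _ _ hm fun Q _ => ?_
  have : IsDomain A := IsLocalization.isDomain_of_le_nonZeroDivisors (R := R) (S := A) p.primeCompl_le_nonZeroDivisors
  let C := R ⊗[k] K
  let FA := FractionRing A
  let : Algebra k A := ((algebraMap R A).comp (algebraMap k R)).toAlgebra
  have : IsScalarTower k R A := IsScalarTower.of_algebraMap_eq fun _ => rfl
  have : IsScalarTower k R FA := IsScalarTower.of_algebraMap_eq fun r => by
    rw [IsScalarTower.algebraMap_apply k A FA, IsScalarTower.algebraMap_apply k R A,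
      ← IsScalarTower.algebraMap_apply R A FA]
  have hRA : Function.Injective (algebraMap R A) := IsLocalization.injective A p.primeCompl_le_nonZeroDivisors
  have hRF : Function.Injective (algebraMap R FA) := by
    rw [IsScalarTower.algebraMap_eq R A FA]
    exact (IsFractionRing.injective A FA).comp hRA
  have : FaithfulSMul R FA := (faithfulSMul_iff_algebraMap_injective R FA).mpr hRF
  have : IsFractionRing R FA := IsFractionRing.of_field R FA fun z => by
    obtain ⟨a, b, hb, rfl⟩ := IsFractionRing.div_surjective (A := A) z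
    obtain ⟨r, s, rfl⟩ := IsLocalization.exists_mk'_eq p.primeCompl a
    obtain ⟨r', s', rfl⟩ := IsLocalization.exists_mk'_eq p.primeCompl b
    refine ⟨r * s', r' * s, ?_⟩
    have hne : ∀ u : p.primeCompl, algebraMap R FA u ≠ 0 := fun u =>
      (map_ne_zero_iff _ hRF).mpr fun h => u.2 (h ▸ p.zero_mem)
    have key : ∀ (r : R) (s : p.primeCompl), algebraMap A FA (IsLocalization.mk' A r s) =
        algebraMap R FA r / algebraMap R FA s := fun r s => by
      rw [eq_div_iff (hne s), IsScalarTower.algebraMap_apply R A FA (s : R), ← map_mul,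
        IsLocalization.mk'_spec, ← IsScalarTower.algebraMap_apply]
    rw [key, key, map_mul, map_mul, div_div_div_eq, mul_comm (algebraMap R FA r') (algebraMap R FA s)]
  let N := integralClosure R FA
  let A' := integralClosure A FA
  have : Module.Finite R N := CAlg6.finite_integralClosure k R FA FA
  have : Algebra.FiniteType k N := Algebra.FiniteType.trans (S := R) inferInstance inferInstance
  let j : N →+* A' :=
    { toFun := fun x => ⟨(x : FA), x.2.tower_top⟩
      map_one' := rfl
      map_mul' := fun _ _ => rfl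
      map_zero' := rfl
      map_add' := fun _ _ => rfl }
  let : Algebra N A' := j.toAlgebra
  have : IsScalarTower N A' FA := IsScalarTower.of_algebraMap_eq fun _ => rfl
  have : IsScalarTower R N A' := IsScalarTower.of_algebraMap_eq fun r => Subtype.ext (by
    show algebraMap A FA (algebraMap R A r) = algebraMap R FA r
    rw [← IsScalarTower.algebraMap_apply])
  have : IsLocalization (Algebra.algebraMapSubmonoid FA p.primeCompl) FA :=
    IsLocalization.self fun z ⟨m, hm', hz⟩ => by
      rw [← hz]
      exact IsUnit.mk0 _ ((map_ne_zero_iff _ (IsFractionRing.injective R FA)).mpr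
        fun h => hm' (h ▸ p.zero_mem))
  have : IsLocalization (Algebra.algebraMapSubmonoid N p.primeCompl) A' :=
    IsLocalization.integralClosure (S := FA) (Rf := A) (Sf := FA) p.primeCompl
  obtain ⟨eA⟩ := nonempty_algEquiv_tensor_localization R A N A' p.primeCompl
  obtain ⟨q₀, _, hq₀, ⟨eQ⟩⟩ := exists_prime_equiv R C A B N A' p.primeCompl P eA Q
  let U := C ⊗[R] N
  let e₃ : U ≃+* K ⊗[k] N :=
    ((Algebra.TensorProduct.comm R C N).toRingEquiv.trans
      (Algebra.TensorProduct.cancelBaseChange k R R N K).toRingEquiv).trans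
      (Algebra.TensorProduct.comm k N K).toRingEquiv
  let q₁ : Ideal (K ⊗[k] N) := q₀.comap e₃.symm.toRingHom
  let qN : Ideal N := q₁.comap (Algebra.TensorProduct.includeRight : N →ₐ[k] K ⊗[k] N).toRingHom
  have hle : qN.comap (algebraMap R N) ≤ p := by
    intro r hr
    have heq : e₃.symm (1 ⊗ₜ algebraMap R N r) = algebraMap C U (algebraMap R C r) := by
      rw [RingEquiv.symm_apply_eq]
      simp [U, C, e₃, Algebra.TensorProduct.algebraMap_apply, Algebra.algebraMap_eq_smul_one,
        TensorProduct.smul_tmul]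
      rw [Algebra.TensorProduct.one_def, TensorProduct.smul_tmul']
      simp
    have hmem : e₃.symm (1 ⊗ₜ algebraMap R N r) ∈ q₀ := hr
    rw [heq] at hmem
    by_contra hrp
    have hu' : IsUnit (algebraMap C B (algebraMap R C r)) := by
      rw [← IsScalarTower.algebraMap_apply R C B, IsScalarTower.algebraMap_apply R A B]
      exact (IsLocalization.map_units A (⟨r, hrp⟩ : p.primeCompl)).map _
    exact (IsLocalization.AtPrime.isUnit_to_map_iff B P _).mp hu' (hq₀ hmem)
  have hreg : IsRegularLocalRing (Localization.AtPrime q₁) :=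
    regular_tensor_of_isSmoothAt k K N q₁ (hsm FA ⟨qN, inferInstance⟩ hle)
  let e₅ : Localization.AtPrime q₀ ≃+* Localization.AtPrime q₁ :=
    IsLocalization.ringEquivOfRingEquiv (M := q₀.primeCompl) (T := q₁.primeCompl) _ _ e₃
      (Submonoid.ext fun z => ⟨fun ⟨w, hw, hwz⟩ h => hw (by
          have h' : e₃.symm z ∈ q₀ := h
          rw [← hwz] at h'
          change e₃.symm (e₃ w) ∈ q₀ at h'
          rwa [e₃.symm_apply_apply] at h'),
        fun hz => ⟨e₃.symm z, hz, e₃.apply_symm_apply z⟩⟩)
  have := CAlg1.isDomain_regular (Localization.AtPrime q₁)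
  have := CAlg6.isIntegrallyClosed_of_regular (Localization.AtPrime q₁)
  exact ⟨(eQ.trans e₅).toMulEquiv.isDomain _, IsIntegrallyClosed.of_equiv (R := Localization.AtPrime q₁) (S := Localization.AtPrime Q) (eQ.trans e₅).symm⟩

end Groth.Agent.PINorm31
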