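import Groth.Prelude.Def_Curv2
import Mathlib.RingTheory.Flat.FaithfullyFlat.Basic
import Mathlib.RingTheory.Flat.Localization
import Mathlib.RingTheory.Flat.TorsionFree
import Mathlib.RingTheory.Length
import Mathlib.RingTheory.Localization.BaseChange
import Mathlib.LinearAlgebra.TensorProduct.RightExactness

/-! The δ-invariant can only grow along a faithfully flat map. -/

set_option autoImplicit false

universe u

open TensorProduct

namespace Groth.Agent.PINorm31

variable {A B : Type u} [CommRing A] [CommRing B] [Algebra A B]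

theorem algebraMap_mem_nonZeroDivisors [Module.Flat A B] {a : A} (ha : a ∈ nonZeroDivisors A) :
    algebraMap A B a ∈ nonZeroDivisors B := by
  rw [mem_nonZeroDivisors_iff_right]
  intro x hx
  have h : IsSMulRegular B a :=
    Module.Flat.isSMulRegular_of_isRegular (M := B) (isRegular_iff_mem_nonZeroDivisors.mpr ha)
  apply h
  show a • x = a • 0
  rw [smul_zero, Algebra.smul_def, mul_comm]
  exact hx

variable (A B)

/-- `B ⊗ A' ↪ B' ⊆ Frac B` for the integral closures in total fraction rings. -/
theorem exists_comparison [Module.Flat A B] :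
    ∃ ψ : B ⊗[A] integralClosure A (FractionRing A) →ₐ[B] FractionRing B,
      Function.Injective ψ ∧ ∀ t, ψ t ∈ integralClosure B (FractionRing B) := by
  let FA := FractionRing A
  let FB := FractionRing B
  let φ : FA →ₐ[A] FB :=
    IsLocalization.liftAlgHom (M := nonZeroDivisors A) (S := FA) (f := Algebra.ofId A FB)
      fun m => by
        rw [Algebra.ofId_apply, IsScalarTower.algebraMap_apply A B FB]
        exact IsLocalization.map_units FB (⟨_, algebraMap_mem_nonZeroDivisors m.2⟩ : nonZeroDivisors B)
  -- `B ⊗ Frac A → Frac B` is injective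
  let θ : B ⊗[A] FA →ₐ[B] FB := Algebra.TensorProduct.lift (Algebra.ofId B FB) φ fun _ _ => Commute.all _ _
  have hθ : Function.Injective θ := by
    rw [injective_iff_map_eq_zero]
    intro t ht
    have : IsLocalization (Algebra.algebraMapSubmonoid B (nonZeroDivisors A)) (B ⊗[A] FA) :=
      IsLocalization.tensor FA (nonZeroDivisors A)
    obtain ⟨b, m, rfl⟩ :=
      IsLocalization.exists_mk'_eq (Algebra.algebraMapSubmonoid B (nonZeroDivisors A)) t
    have h : θ (algebraMap B _ b) = 0 := by
      rw [← IsLocalization.mk'_spec (B ⊗[A] FA) b m, map_mul, ht, zero_mul]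
    rw [AlgHom.commutes] at h
    rw [IsFractionRing.injective B FB (h.trans (map_zero _).symm), IsLocalization.mk'_zero]
  let j : B ⊗[A] integralClosure A FA →ₐ[B] B ⊗[A] FA :=
    Algebra.TensorProduct.map (AlgHom.id B B) (integralClosure A FA).val
  refine ⟨θ.comp j, hθ.comp ?_, fun t => ?_⟩
  · exact Module.Flat.lTensor_preserves_injective_linearMap (M := B)
      (integralClosure A FA).val.toLinearMap Subtype.val_injective
  · induction t using TensorProduct.induction_on with
    | zero => rw [map_zero]; exact zero_mem _
    | tmul b x =>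
      have : (θ.comp j) (b ⊗ₜ x) = algebraMap B FB b * φ (x : FA) := by
        simp [θ, j, Algebra.ofId_apply]
      rw [this]
      exact mul_mem (Subalgebra.algebraMap_mem _ b) ((x.2.map φ).tower_top : IsIntegral B (φ x))
    | add x y hx hy => rw [map_add]; exact add_mem hx hy

/-- The base change of `A'/A` injects into `B'/B`, bijectively if `B ⊗ A' = B'`. -/
theorem exists_quotient_map [Module.Flat A B]
    (ψ : B ⊗[A] integralClosure A (FractionRing A) →ₐ[B] FractionRing B)
    (hψ : Function.Injective ψ) (hψint : ∀ t, ψ t ∈ integralClosure B (FractionRing B)) :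
    ∃ e : B ⊗[A] (integralClosure A (FractionRing A) ⧸
          LinearMap.range (Algebra.linearMap A (integralClosure A (FractionRing A)))) →ₗ[B]
        integralClosure B (FractionRing B) ⧸
          LinearMap.range (Algebra.linearMap B (integralClosure B (FractionRing B))),
      Function.Injective e ∧
      ((∀ y ∈ integralClosure B (FractionRing B), ∃ t, ψ t = y) → Function.Surjective e) := by
  let A' := integralClosure A (FractionRing A)
  let B' := integralClosure B (FractionRing B)
  let ψ' : B ⊗[A] A' →ₐ[B] B' := ψ.codRestrict B' hψint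
  have hψ' : Function.Injective ψ' := fun s t h => hψ (congrArg Subtype.val h)
  let rA := LinearMap.range (Algebra.linearMap A A')
  let rB := LinearMap.range (Algebra.linearMap B B')
  let qA : B ⊗[A] A' →ₗ[B] B ⊗[A] (A' ⧸ rA) := rA.mkQ.baseChange B
  have hqA : Function.Surjective qA := LinearMap.lTensor_surjective B rA.mkQ_surjective
  have hker : LinearMap.ker qA = LinearMap.ker (rB.mkQ ∘ₗ ψ'.toLinearMap) := by
    have hex : Function.Exact ((Algebra.linearMap A A').lTensor B) qA :=
      lTensor_exact B (LinearMap.exact_iff.mpr (Submodule.ker_mkQ rA)) rA.mkQ_surjective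
    have hone : ∀ y : B ⊗[A] A, (Algebra.linearMap A A').lTensor B y =
        algebraMap B (B ⊗[A] A') (TensorProduct.rid A B y) := by
      intro y
      induction y using TensorProduct.induction_on with
      | zero => simp
      | tmul b a =>
        simp only [LinearMap.lTensor_tmul, Algebra.linearMap_apply, TensorProduct.rid_tmul,
          Algebra.TensorProduct.algebraMap_apply, Algebra.algebraMap_self, RingHom.id_apply]
        rw [Algebra.algebraMap_eq_smul_one, TensorProduct.tmul_smul, TensorProduct.smul_tmul']
      | add x y hx hy => simp only [map_add, hx, hy]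
    ext t
    simp only [LinearMap.mem_ker, LinearMap.comp_apply, Submodule.mkQ_apply, Submodule.Quotient.mk_eq_zero]
    constructor
    · intro ht
      obtain ⟨y, rfl⟩ := (hex t).mp ht
      exact ⟨TensorProduct.rid A B y, by rw [hone]; exact (AlgHom.commutes ψ' _).symm⟩
    · rintro ⟨b, hb⟩
      refine (hex t).mpr ⟨b ⊗ₜ 1, hψ' ?_⟩
      rw [hone, AlgHom.commutes]
      simpa using hb
  refine ⟨((LinearMap.ker qA).liftQ (rB.mkQ ∘ₗ ψ'.toLinearMap) hker.le) ∘ₗ
      (qA.quotKerEquivOfSurjective hqA).symm.toLinearMap, ?_, fun hs => ?_⟩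
  · rw [LinearMap.coe_comp]
    refine Function.Injective.comp ?_ (qA.quotKerEquivOfSurjective hqA).symm.injective
    rw [← LinearMap.ker_eq_bot]
    exact Submodule.ker_liftQ_eq_bot _ _ _ hker.ge
  · rw [LinearMap.coe_comp]
    refine Function.Surjective.comp ?_ (qA.quotKerEquivOfSurjective hqA).symm.surjective
    intro z
    obtain ⟨⟨y, hy⟩, rfl⟩ := rB.mkQ_surjective z
    obtain ⟨t, ht⟩ := hs y hy
    refine ⟨Submodule.Quotient.mk t, ?_⟩
    rw [Submodule.liftQ_apply]
    exact congrArg rB.mkQ (Subtype.ext ht)

theorem deltaInv_le_of_faithfullyFlat [Module.FaithfullyFlat A B] :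
    Curv2.deltaInv A ≤ Curv2.deltaInv B := by
  obtain ⟨ψ, hψ, hψint⟩ := exists_comparison A B
  obtain ⟨e, he, -⟩ := exists_quotient_map A B ψ hψ hψint
  refine le_trans ?_ (Module.length_le_of_injective e he)
  rw [Curv2.deltaInv, ← WithBot.coe_le_coe, Module.coe_length, Module.coe_length]
  exact Order.krullDim_le_of_strictMono _
    (Submodule.baseChangeOrderEmbedding A _ B).strictMono

omit [Algebra A B] in
theorem deltaInv_eq_of_ringEquiv (e : A ≃+* B) : Curv2.deltaInv A = Curv2.deltaInv B := by
  have key : ∀ (R S : Type u) [CommRing R] [CommRing S], (R ≃+* S) →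
      Curv2.deltaInv R ≤ Curv2.deltaInv S := by
    intro R S _ _ f
    let := f.toRingHom.toAlgebra
    have : Module.FaithfullyFlat R S :=
      Module.FaithfullyFlat.of_linearEquiv _ _
        ({ f with map_smul' := fun r x => by simp [RingHom.algebraMap_toAlgebra, Algebra.smul_def] } :
          R ≃ₗ[R] S).symm
    exact deltaInv_le_of_faithfullyFlat R S
  exact le_antisymm (key A B e) (key B A e.symm)

end Groth.Agent.PINorm31
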