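import Groth.Prelude.Def_Curv2
import Groth.Agent.PINorm31.Alg
import Groth.Agent.FBase64.Chart
import Groth.Agent.VarNorm.Chart
import Groth.Agent.FlatMor67.GenericFibre
import Groth.Agent.H98.PurInsep
import Mathlib.AlgebraicGeometry.Morphisms.Smooth
import Mathlib

/-! The reduced purely inseparable base change of an integral scheme and its affine charts. -/

set_option autoImplicit false
set_option backward.isDefEq.respectTransparency.types false

universe u

open CategoryTheory CategoryTheory.Limits AlgebraicGeometry TensorProduct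

namespace Groth.Agent.PINorm31

variable {k : Type u} [Field k] (X : Scheme.{u}) [X.Over (Spec (CommRingCat.of k))]
  (k' : Type u) [Field k'] [Algebra k k']

theorem isHomeomorph_bcFst [IsPurelyInseparable k k'] : IsHomeomorph (Curv2.bcFst k X k').base := by
  have h : FlatMor.IsUnivHomeo (Spec.map (CommRingCat.ofHom (algebraMap k k'))) :=
    H98.isUnivHomeo_of_purelyInseparable k k' k k'
  exact h _ _ _ (IsPullback.of_hasPullback (X ↘ Spec (CommRingCat.of k))
    (Spec.map (CommRingCat.ofHom (algebraMap k k'))))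

theorem isIntegral_red [IsPurelyInseparable k k'] [IsIntegral X] :
    IsIntegral (Curv2.bc k X k').nilradical.subscheme := by
  have : IsReduced (Curv2.bc k X k').nilradical.subscheme :=
    FlatMor67.isReduced_subscheme_nilradical _
  let ι := (Curv2.bc k X k').nilradical.subschemeι
  have hι : IsHomeomorph ι.base := by
    rw [isHomeomorph_iff_isEmbedding_surjective]
    refine ⟨ι.isClosedEmbedding.isEmbedding, ?_⟩
    rw [← Set.range_eq_univ]
    show Set.range (Curv2.bc k X k').nilradical.subschemeι = _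
    rw [Scheme.IdealSheafData.range_subschemeι, Scheme.support_nilradical]
    rfl
  let e := ((isHomeomorph_bcFst X k').comp hι).homeomorph
  have : IrreducibleSpace (Curv2.bc k X k').nilradical.subscheme := by
    rw [irreducibleSpace_def]
    have h : IsIrreducible (Set.univ : Set X) := IrreducibleSpace.isIrreducible_univ X
    have := h.image e.symm e.symm.continuous.continuousOn
    rwa [Set.image_univ, e.symm.surjective.range_eq] at this
  exact isIntegral_of_irreducibleSpace_of_isReduced _

theorem exists_chart_red (A : Type u) [CommRing A] [Algebra k A] (j : Spec (CommRingCat.of A) ⟶ X)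
    [IsOpenImmersion j]
    (hj : j ≫ (X ↘ Spec (CommRingCat.of k)) = Spec.map (CommRingCat.ofHom (algebraMap k A))) :
    ∃ (V : (Curv2.bc k X k').nilradical.subscheme.Opens),
      IsAffineOpen V ∧
      (V : Set (Curv2.bc k X k').nilradical.subscheme) =
        ((Curv2.bc k X k').nilradical.subschemeι ≫ Curv2.bcFst k X k').base ⁻¹' Set.range j ∧
      ∃ ψ : k' ⊗[k] A →+* Γ((Curv2.bc k X k').nilradical.subscheme, V),
        Function.Surjective ψ ∧ (∀ x, ψ x = 0 → IsNilpotent x) ∧
        ∀ r : k', ψ (r ⊗ₜ 1) = ((Scheme.ΓSpecIso (CommRingCat.of k')).inv ≫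
          ((Curv2.bc k X k').nilradical.subschemeι ≫ Curv2.bcSnd k X k').appLE ⊤ V le_top).hom r := by
  set t := Spec.map (CommRingCat.ofHom (algebraMap k k'))
  let c := FBase64.prodChart (X ↘ Spec (CommRingCat.of k)) t j (𝟙 _) hj (Category.id_comp _)
  have hc : c ≫ Curv2.bcSnd k X k' = Spec.map (CommRingCat.ofHom
      (Algebra.TensorProduct.includeRight : k' →ₐ[k] A ⊗[k] k').toRingHom) := by
    show FBase64.prodChart _ _ j (𝟙 _) hj _ ≫ pullback.snd _ _ = _
    rw [FBase64.prodChart, Category.assoc, pullback.lift_snd, Category.comp_id,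
      pullbackSpecIso_inv_snd]
    rfl
  let W : (Curv2.bc k X k').affineOpens :=
    ⟨c ''ᵁ ⊤, (isAffineOpen_top _).image_of_isOpenImmersion c⟩
  let ι := (Curv2.bc k X k').nilradical.subschemeι
  let e : A ⊗[k] k' ≃+* Γ(Curv2.bc k X k', W.1) :=
    ((c.appIso ⊤ ≪≫ Scheme.ΓSpecIso (CommRingCat.of (A ⊗[k] k'))).commRingCatIsoToRingEquiv).symm
  refine ⟨ι ⁻¹ᵁ W.1, W.2.preimage ι, ?_,
    (ι.app W.1).hom.comp (e.toRingHom.comp (Algebra.TensorProduct.comm k k' A).toRingHom), ?_, ?_, ?_⟩
  · show ι.base ⁻¹' (c '' Set.univ) = ι.base ⁻¹' ((Curv2.bcFst k X k').base ⁻¹' Set.range j)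
    rw [Set.image_univ, FBase64.range_prodChart]
    congr 1
    ext z
    simp
    rfl
  · exact (Scheme.IdealSheafData.subschemeι_app_surjective _ W).comp
      (e.surjective.comp (Algebra.TensorProduct.comm k k' A).surjective)
  · intro x hx
    have hx' : e ((Algebra.TensorProduct.comm k k' A) x) ∈ (Curv2.bc k X k').nilradical.ideal W := by
      rw [← Scheme.IdealSheafData.ker_subschemeι_app]
      exact hx
    rw [Scheme.nilradical, Scheme.IdealSheafData.radical_ideal, Scheme.IdealSheafData.ideal_bot] at hx'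
    exact (IsNilpotent.map_iff (f := (e.toRingHom.comp (Algebra.TensorProduct.comm k k' A).toRingHom))
      (e.injective.comp (Algebra.TensorProduct.comm k k' A).injective)).mp hx'
  · intro r
    have h1 : (Curv2.bcSnd k X k').appLE ⊤ W.1 le_top ≫ (c.appIso ⊤).hom =
        (c ≫ Curv2.bcSnd k X k').appTop := by
      rw [Scheme.Hom.appIso_hom']
      erw [Scheme.Hom.appLE_comp_appLE]
      rw [Scheme.Hom.appTop, Scheme.Hom.app_eq_appLE]
      rfl
    have h2 : e (1 ⊗ₜ r) =
        ((Scheme.ΓSpecIso (CommRingCat.of k')).inv ≫ (Curv2.bcSnd k X k').appLE ⊤ W.1 le_top).hom r := by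
      apply e.symm.injective
      rw [e.symm_apply_apply]
      show _ = ((Scheme.ΓSpecIso (CommRingCat.of k')).inv ≫ (Curv2.bcSnd k X k').appLE ⊤ W.1 le_top ≫
        (c.appIso ⊤).hom ≫ (Scheme.ΓSpecIso (CommRingCat.of (A ⊗[k] k'))).hom).hom r
      rw [← Category.assoc ((Curv2.bcSnd k X k').appLE ⊤ W.1 le_top), h1, hc,
        Scheme.ΓSpecIso_naturality, Iso.inv_hom_id_assoc]
      rfl
    show ι.app W.1 (e ((Algebra.TensorProduct.comm k k' A) (r ⊗ₜ 1))) = _
    rw [Algebra.TensorProduct.comm_tmul, h2]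
    rw [← Scheme.Hom.appLE_comp_appLE ι (Curv2.bcSnd k X k') ⊤ W.1 (ι ⁻¹ᵁ W.1) le_top le_rfl]
    rw [Scheme.Hom.app_eq_appLE]
    rfl

theorem smooth_of_charts {Y : Scheme.{u}} [IsIntegral Y]
    [QuasiCompact (Y.fromSpecStalk (genericPoint Y))] [QuasiSeparated (Y.fromSpecStalk (genericPoint Y))]
    (R : Type u) [CommRing R] (f : Y ⟶ Spec (CommRingCat.of R))
    (h : ∀ y : Y, ∃ (V : Y.Opens) (_ : Nonempty V), IsAffineOpen V ∧ y ∈ V ∧
      ((algebraMap Γ(Y, V) (integralClosure Γ(Y, V) Y.functionField)).comp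
        ((Scheme.ΓSpecIso (CommRingCat.of R)).inv ≫ f.appLE ⊤ V le_top).hom).Smooth) :
    Smooth (Curv2.normalizationι Y ≫ f) := by
  choose V hne hV hy hs using h
  refine IsZariskiLocalAtSource.of_iSup_eq_top (P := (@Smooth : MorphismProperty Scheme.{u})) (fun y => Curv2.normalizationι Y ⁻¹ᵁ V y)
    (top_le_iff.mp fun z _ => TopologicalSpace.Opens.mem_iSup.mpr
      ⟨(Curv2.normalizationι Y).base z, hy _⟩) fun y => ?_
  have := hne y
  obtain ⟨g, _, hrange, hg⟩ := VarNorm.exists_chart Y (V y) (hV y)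
  have hf : (hV y).fromSpec ≫ f =
      Spec.map ((Scheme.ΓSpecIso (CommRingCat.of R)).inv ≫ f.appLE ⊤ (V y) le_top) := by
    rw [← IsAffineOpen.SpecMap_appLE_fromSpec f (isAffineOpen_top _) (hV y) le_top,
      IsAffineOpen.fromSpec_top, Scheme.isoSpec_Spec_inv, ← Spec.map_comp]
  have hsm : Smooth (g ≫ Curv2.normalizationι Y ≫ f) := by
    rw [← Category.assoc, hg, Category.assoc, hf, ← Spec.map_comp, HasRingHomProperty.Spec_iff (P := @Smooth)]
    exact hs y
  rw [← hrange]
  have : g.opensRange.ι = g.isoOpensRange.inv ≫ g := by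
    rw [Iso.eq_inv_comp, Scheme.Hom.isoOpensRange_hom_ι]
  rw [this, Category.assoc]
  exact (MorphismProperty.cancel_left_of_respectsIso @Smooth _ _).mpr hsm

end Groth.Agent.PINorm31
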